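import Mathlib

/-!
# The least common multiple of numbers `q ^ k ± 1`
-/

set_option autoImplicit false

namespace CfsgLib.OrderBound

open Finset

/-- The telescoping product `∏ (q ^ (2 ^ j) + 1)`. -/
theorem prod_range_tel (q : ℕ) (hq : 1 ≤ q) (J : ℕ) :
    (q - 1) * ∏ j ∈ range J, (q ^ (2 ^ j) + 1) = q ^ (2 ^ J) - 1 := by
  induction J with
  | zero => simp
  | succ J ih =>
    rw [prod_range_succ, ← mul_assoc, ih, pow_succ, pow_mul, mul_comm]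
    have h1 : 1 ≤ q ^ 2 ^ J := Nat.one_le_pow _ _ hq
    obtain ⟨a, ha⟩ := Nat.exists_eq_add_of_le h1
    rw [ha, Nat.add_sub_cancel_left, sq,
      show (1 + a) * (1 + a) = 1 + a * (1 + a + 1) by ring, Nat.add_sub_cancel_left]
    ring

theorem prod_subset_le (q : ℕ) (hq : 1 ≤ q) (S : Finset ℕ) :
    (q - 1) * ∏ j ∈ S, (q ^ (2 ^ j) + 1) ≤ q ^ (1 + ∑ j ∈ S, 2 ^ j) := by
  obtain ⟨J, hJ⟩ : ∃ J, S ⊆ range J := ⟨S.sup id + 1, fun j hj => by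
    have := Finset.le_sup (f := id) hj
    simp only [id] at this
    exact mem_range.2 (by omega)⟩
  have hq0 : 0 < q := hq
  have h1 := prod_sdiff (f := fun j => q ^ (2 ^ j) + 1) hJ
  have h2 : ∏ j ∈ range J \ S, q ^ (2 ^ j) ≤ ∏ j ∈ range J \ S, (q ^ (2 ^ j) + 1) :=
    prod_le_prod' fun j _ => Nat.le_succ _
  have h3 : (q - 1) * (∏ j ∈ S, (q ^ (2 ^ j) + 1)) * q ^ (∑ j ∈ range J \ S, 2 ^ j) ≤ q ^ (2 ^ J) := by
    calc (q - 1) * (∏ j ∈ S, (q ^ (2 ^ j) + 1)) * q ^ (∑ j ∈ range J \ S, 2 ^ j)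
        = (q - 1) * ((∏ j ∈ range J \ S, q ^ (2 ^ j)) * ∏ j ∈ S, (q ^ (2 ^ j) + 1)) := by
          rw [prod_pow_eq_pow_sum]; ring
      _ ≤ (q - 1) * ((∏ j ∈ range J \ S, (q ^ (2 ^ j) + 1)) * ∏ j ∈ S, (q ^ (2 ^ j) + 1)) :=
          Nat.mul_le_mul le_rfl (Nat.mul_le_mul h2 le_rfl)
      _ = q ^ (2 ^ J) - 1 := by rw [h1, prod_range_tel q hq]
      _ ≤ q ^ (2 ^ J) := Nat.sub_le _ _
  have h4 : 2 ^ J = 1 + (∑ j ∈ range J \ S, 2 ^ j + ∑ j ∈ S, 2 ^ j) := by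
    rw [sum_sdiff hJ, Nat.geomSum_eq (le_refl 2), Nat.div_one]
    have := Nat.one_le_two_pow (n := J)
    omega
  rw [h4, show 1 + (∑ j ∈ range J \ S, 2 ^ j + ∑ j ∈ S, 2 ^ j) =
      (1 + ∑ j ∈ S, 2 ^ j) + ∑ j ∈ range J \ S, 2 ^ j by ring, pow_add] at h3
  exact Nat.le_of_mul_le_mul_right h3 (Nat.pow_pos hq0)

/-- For `k = 2 ^ j * odd`, `q ^ (2 ^ j) + 1` divides `q ^ k + 1`. -/
theorem two_part_dvd (q : ℕ) {k : ℕ} (hk : k ≠ 0) :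
    q ^ (2 ^ padicValNat 2 k) + 1 ∣ q ^ k + 1 ∧ 2 ^ padicValNat 2 k ≤ k := by
  have hd : 2 ^ padicValNat 2 k ∣ k := pow_padicValNat_dvd
  refine ⟨?_, Nat.le_of_dvd (Nat.pos_of_ne_zero hk) hd⟩
  obtain ⟨r, hr⟩ := hd
  have hodd : Odd r := by
    rw [← Nat.not_even_iff_odd, even_iff_two_dvd]
    intro h
    refine pow_succ_padicValNat_not_dvd (p := 2) hk ?_
    calc 2 ^ (padicValNat 2 k + 1) = 2 ^ padicValNat 2 k * 2 := pow_succ _ _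
      _ ∣ 2 ^ padicValNat 2 k * r := mul_dvd_mul_left _ h
      _ = k := hr.symm
  nth_rewrite 2 [hr]
  rw [pow_mul]
  simpa using hodd.nat_add_dvd_pow_add_pow (q ^ 2 ^ padicValNat 2 k) 1

theorem quot_le (q : ℕ) (hq : 1 ≤ q) {k a : ℕ} (hak : a ≤ k) :
    (q ^ k + 1) / (q ^ a + 1) ≤ q ^ (k - a) := by
  rw [Nat.div_le_iff_le_mul_add_pred (Nat.succ_pos _)]
  have h1 : 1 ≤ q ^ (k - a) := Nat.one_le_pow _ _ hq
  have h2 : q ^ (k - a) * q ^ a = q ^ k := by rw [← pow_add, Nat.sub_add_cancel hak]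
  nlinarith

/-- A small common multiple of `q ^ k + 1`, `k ∈ A`, and `q ^ k - 1`, `k ∈ B`. -/
theorem exists_common_multiple (q : ℕ) (hq : 2 ≤ q) (A B : Finset ℕ) (hA : ∀ k ∈ A, k ≠ 0)
    (hB : ∀ k ∈ B, k ≠ 0) :
    ∃ L, 0 < L ∧ (∀ k ∈ A, q ^ k + 1 ∣ L) ∧ (∀ k ∈ B, q ^ k - 1 ∣ L) ∧
      (q - 1) * L ≤ q ^ (1 + (∑ k ∈ A, k + ∑ k ∈ B, k)) := by
  have hq1 : 1 ≤ q := by omega
  set v : ℕ → ℕ := fun k => padicValNat 2 k with hv
  set S := A.image v with hS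
  set d : ℕ → ℕ := fun k => q ^ (2 ^ v k) + 1 with hd
  set L := (∏ j ∈ S, (q ^ (2 ^ j) + 1)) * (∏ k ∈ A, (q ^ k + 1) / d k) * ∏ k ∈ B, (q ^ k - 1) with hL
  have hdd : ∀ k ∈ A, d k * ((q ^ k + 1) / d k) = q ^ k + 1 := fun k hk =>
    Nat.mul_div_cancel' (two_part_dvd q (hA k hk)).1
  refine ⟨L, ?_, fun k hk => ?_, fun k hk => ?_, ?_⟩
  · refine Nat.mul_pos (Nat.mul_pos (prod_pos fun j _ => Nat.succ_pos _) (prod_pos fun k hk => ?_))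
      (prod_pos fun k hk => ?_)
    · have := hdd k hk
      rcases Nat.eq_zero_or_pos ((q ^ k + 1) / d k) with h | h
      · rw [h, mul_zero] at this; omega
      · exact h
    · have := Nat.one_lt_pow (hB k hk) (show 1 < q by omega)
      omega
  · rw [← hdd k hk]
    refine dvd_mul_of_dvd_left (mul_dvd_mul ?_ (dvd_prod_of_mem _ hk)) _
    exact dvd_prod_of_mem (fun j => q ^ (2 ^ j) + 1) (mem_image_of_mem v hk)
  · exact dvd_mul_of_dvd_right (dvd_prod_of_mem (fun k => q ^ k - 1) hk) _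
  · have h1 := prod_subset_le q hq1 S
    have h2 : ∏ k ∈ A, (q ^ k + 1) / d k ≤ q ^ ∑ k ∈ A, (k - 2 ^ v k) := by
      rw [← prod_pow_eq_pow_sum]
      exact prod_le_prod' fun k hk => quot_le q hq1 (two_part_dvd q (hA k hk)).2
    have h3 : ∏ k ∈ B, (q ^ k - 1) ≤ q ^ ∑ k ∈ B, k := by
      rw [← prod_pow_eq_pow_sum]
      exact prod_le_prod' fun k _ => Nat.sub_le _ _
    have h4 : ∑ j ∈ S, 2 ^ j + ∑ k ∈ A, (k - 2 ^ v k) ≤ ∑ k ∈ A, k := by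
      have h5 : ∑ j ∈ S, 2 ^ j ≤ ∑ k ∈ A, 2 ^ v k := sum_image_le_of_nonneg fun u _ => Nat.zero_le _
      have h6 : ∑ k ∈ A, (k - 2 ^ v k) + ∑ k ∈ A, 2 ^ v k = ∑ k ∈ A, k := by
        rw [← sum_add_distrib]
        exact sum_congr rfl fun k hk => Nat.sub_add_cancel (two_part_dvd q (hA k hk)).2
      omega
    calc (q - 1) * L = ((q - 1) * ∏ j ∈ S, (q ^ (2 ^ j) + 1)) * (∏ k ∈ A, (q ^ k + 1) / d k) *
          ∏ k ∈ B, (q ^ k - 1) := by rw [hL]; ring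
      _ ≤ q ^ (1 + ∑ j ∈ S, 2 ^ j) * q ^ (∑ k ∈ A, (k - 2 ^ v k)) * q ^ ∑ k ∈ B, k :=
          Nat.mul_le_mul (Nat.mul_le_mul h1 h2) h3
      _ ≤ _ := by
          rw [← pow_add, ← pow_add]
          exact Nat.pow_le_pow_right (by omega) (by omega)

/-- `2 * c + 1 ≤ p ^ c` for odd `p`. -/
theorem le_pow_odd {p : ℕ} (hp : 3 ≤ p) (c : ℕ) : 2 * c + 1 ≤ p ^ c := by
  induction c with
  | zero => simp
  | succ c ih => rw [pow_succ]; nlinarith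

theorem two_mul_le_pow (c : ℕ) : 2 * c ≤ 2 ^ c := by
  induction c with
  | zero => simp
  | succ c ih =>
    rcases Nat.eq_zero_or_pos c with rfl | hc
    · simp
    · rw [pow_succ]; omega

theorem succ_le_pow {p : ℕ} (hp : 2 ≤ p) (c : ℕ) : c + 1 ≤ p ^ c := by
  induction c with
  | zero => simp
  | succ c ih => rw [pow_succ]; nlinarith

theorem two_mul_le_pow_pred {p : ℕ} (hp : 3 ≤ p) : ∀ c : ℕ, 2 ≤ c → 2 * (c + 1) ≤ p ^ c := by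
  intro c hc
  induction c, hc using Nat.le_induction with
  | base => nlinarith
  | succ c hc ih => rw [pow_succ]; nlinarith

end CfsgLib.OrderBound
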