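import Cfsg.Agent.Lib.Classical.OrderBound.Roots

/-!
# Element orders in isometry groups
-/

set_option autoImplicit false
set_option maxHeartbeats 800000

namespace CfsgLib.OrderBound

open Polynomial Matrix

variable {F : Type*} [Field F] [Fintype F] {ι : Type*} [Fintype ι] [DecidableEq ι]

theorem reverse_prod_X_sub_C {K : Type*} [Field K] (R : Multiset K) (h0 : (0 : K) ∉ R) :
    ∃ c : K, c ≠ 0 ∧ ((R.map fun a => X - C a).prod).reverse =
      C c * (R.map fun a => X - C a⁻¹).prod := by
  induction R using Multiset.induction_on with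
  | empty => exact ⟨1, one_ne_zero, by
    rw [Multiset.map_zero, Multiset.prod_zero, Multiset.map_zero, Multiset.prod_zero, C_1, one_mul, ← C_1,
      reverse_C]⟩
  | cons a R ih =>
    obtain ⟨c, hc, he⟩ := ih fun h => h0 (Multiset.mem_cons_of_mem h)
    have ha : a ≠ 0 := fun h => h0 (h ▸ Multiset.mem_cons_self a R)
    refine ⟨-a * c, mul_ne_zero (neg_ne_zero.2 ha) hc, ?_⟩
    rw [Multiset.map_cons, Multiset.prod_cons, Multiset.map_cons, Multiset.prod_cons,
      reverse_mul_of_domain, he]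
    have h1 : (X - C a).reverse = C (-a) * (X - C a⁻¹) := by
      rw [sub_eq_add_neg, ← C_neg, reverse_add_C, natDegree_X, pow_one, show (X : K[X]).reverse = 1 by
        rw [reverse, natDegree_X]; simp, mul_sub, ← C_mul, neg_mul, mul_inv_cancel₀ ha, C_neg, C_neg, C_1]
      ring
    rw [h1, C_mul]
    ring

/-- The order of an isometry of a non-singular form is small modulo scalars. -/
theorem exists_pow_scalar (m : ℕ) (hm : 2 ≤ m)
    (hι : Fintype.card ι = 2 * m ∨ (Fintype.card ι = 2 * m + 1 ∧ Odd (Fintype.card F) ∧ 3 ≤ m))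
    (A J : Matrix ι ι F) (hJ : IsUnit J.det) (hA : Aᵀ * J * A = J) :
    ∃ N : ℕ, 0 < N ∧ (∃ s : F, A ^ N = s • (1 : Matrix ι ι F)) ∧
      (Fintype.card F - 1) * N ≤ Fintype.card F ^ (m + 1) := by
  classical
  set q := Fintype.card F with hq
  obtain ⟨p, hpC⟩ := CharP.exists F
  obtain ⟨e, hp, hpe⟩ := FiniteField.card F p
  haveI := Fact.mk hp
  have hq2 : 2 ≤ q := Fintype.one_lt_card
  have hpq : p ≤ q := by
    rw [hq, hpe]
    exact Nat.le_self_pow e.pos.ne' p
  have hqodd : p ≠ 2 → Odd q := fun h => by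
    rw [hq, hpe]
    exact (hp.odd_of_ne_two h).pow
  haveI : Nonempty ι := Fintype.card_pos_iff.1 (by rcases hι with h | ⟨h, -⟩ <;> omega)
  let K := AlgebraicClosure F
  let φ := algebraMap F K
  haveI : CharP K p := charP_of_injective_algebraMap φ.injective p
  have hAdet : IsUnit A.det := by
    have h := congrArg Matrix.det hA
    rw [det_mul, det_mul, det_transpose] at h
    have h2 : (A.det * A.det) * J.det = 1 * J.det := by rw [one_mul]; linear_combination h
    have h3 := hJ.mul_right_cancel h2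
    exact IsUnit.of_mul_eq_one A.det h3
  have hAu : IsUnit A := (Matrix.isUnit_iff_isUnit_det A).2 hAdet
  have hrev : A⁻¹.charpoly = A.charpoly := by
    obtain ⟨u, hu⟩ := (Matrix.isUnit_iff_isUnit_det J).2 hJ
    have h1 : Aᵀ = (u : Matrix ι ι F) * A⁻¹ * ((u⁻¹ : (Matrix ι ι F)ˣ) : Matrix ι ι F) := by
      have h2 : Aᵀ * J = J * A⁻¹ := by
        calc Aᵀ * J = Aᵀ * J * (A * A⁻¹) := by rw [Matrix.mul_nonsing_inv A hAdet, mul_one]
          _ = J * A⁻¹ := by rw [← mul_assoc, hA]
      rw [hu, ← h2, mul_assoc, ← hu, Units.mul_inv, mul_one]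
    calc A⁻¹.charpoly = ((u : Matrix ι ι F) * A⁻¹ * ((u⁻¹ : (Matrix ι ι F)ˣ) : Matrix ι ι F)).charpoly := by
          rw [Matrix.coe_units_inv]; exact (Matrix.charpoly_units_conj u _).symm
      _ = Aᵀ.charpoly := by rw [← h1]
      _ = A.charpoly := Matrix.charpoly_transpose A
  set χ := A.charpoly with hχ
  set R := (χ.map φ).roots with hR
  have hmon : χ.Monic := Matrix.charpoly_monic A
  have hsplit : (χ.map φ).Splits := IsAlgClosed.splits _
  have hcard : Multiset.card R = Fintype.card ι := by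
    rw [hR, ← hsplit.natDegree_eq_card_roots, natDegree_map, hχ, charpoly_natDegree_eq_dim]
  have hprod : χ.map φ = (R.map fun a => X - C a).prod := by
    conv_lhs => rw [hsplit.eq_prod_roots, (hmon.map φ).leadingCoeff, C_1, one_mul]
  have h0 : (0 : K) ∉ R := by
    intro h
    rw [hR, mem_roots (hmon.map φ).ne_zero, IsRoot, ← coeff_zero_eq_eval_zero, coeff_map,
      map_eq_zero] at h
    exact hAdet.ne_zero (by rw [det_eq_sign_charpoly_coeff, ← hχ, h, mul_zero])
  have hinj : Function.Injective fun x : K => x ^ q := (FiniteField.frobeniusAlgHom F K).injective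
  have hF : R.map (fun x => x ^ q) = R := by
    have h1 := hsplit.roots_map (FiniteField.frobeniusAlgHom F K : K →+* K)
    rw [Polynomial.map_map, (FiniteField.frobeniusAlgHom F K).comp_algebraMap] at h1
    exact h1.symm
  have hI : R.map (·⁻¹) = R := by
    obtain ⟨c, hc, he⟩ := reverse_prod_X_sub_C R h0
    rw [← hprod] at he
    have h2 : χ = C ((-1) ^ Fintype.card ι * Ring.inverse A.det) * χ.reverse := by
      rw [hχ, Matrix.reverse_charpoly]
      conv_lhs => rw [← show A⁻¹.charpoly = A.charpoly from hrev, Matrix.charpoly_inv A hAu]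
      rw [map_mul, map_pow, map_neg, C_1]
    have hd0 : (-1 : F) ^ Fintype.card ι * Ring.inverse A.det ≠ 0 := fun h => hmon.ne_zero (by rw [h2, h, C_0, zero_mul])
    have h3 := congrArg (Polynomial.map φ) h2
    have hrmap : χ.reverse.map φ = (χ.map φ).reverse := by
      rw [reverse, reverse, natDegree_map, reflect_map]
    rw [Polynomial.map_mul, map_C, hrmap, he, ← mul_assoc, ← C_mul] at h3
    have hne : φ ((-1 : F) ^ Fintype.card ι * Ring.inverse A.det) * c ≠ 0 :=
      mul_ne_zero (fun h => hd0 (φ.injective (h.trans (map_zero φ).symm))) hc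
    calc R.map (·⁻¹) = ((R.map (·⁻¹)).map fun a => X - C a).prod.roots := (roots_multiset_prod_X_sub_C _).symm
      _ = R := by
        conv_rhs => rw [hR, h3, roots_C_mul _ hne]
        rw [Multiset.map_map]
        rfl
  obtain ⟨L, c, hL, hcnt, hcase⟩ := exists_exponent q p hq2 hp hpq hinj hqodd R h0 hF hI
    (fun h => by subst h; exact CharTwo.neg_eq 1) m hm (by
      rw [hcard]
      rcases hι with h | ⟨h, hodd, h3⟩
      · exact Or.inl h
      · refine Or.inr ⟨h, ?_, h3⟩
        rintro rfl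
        rw [hq, hpe, Nat.odd_pow_iff e.pos.ne'] at hodd
        exact absurd hodd (by decide))
  have key : ∀ (L : ℕ) (s : F), 0 < L → (∀ x ∈ R, x ^ L = φ s) → A ^ (L * p ^ c) = s ^ p ^ c • (1 : Matrix ι ι F) := by
    intro L s hL hx
    set f : F[X] := (X ^ L - C s) ^ p ^ c with hf
    have hf0 : f ≠ 0 := pow_ne_zero _ (X_pow_sub_C_ne_zero hL s)
    have hfK : f.map φ = (X ^ L - C (φ s)) ^ p ^ c := by
      rw [hf, Polynomial.map_pow, Polynomial.map_sub, Polynomial.map_pow, map_X, map_C]
    have hdvd : χ ∣ f := by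
      rw [← map_dvd_map' φ, hsplit.dvd_iff_roots_le_roots (hmon.map φ).ne_zero
        ((Polynomial.map_ne_zero_iff φ.injective).2 hf0), hfK, roots_pow, ← hR, Multiset.le_iff_count]
      intro x
      rw [Multiset.count_nsmul]
      rcases Nat.eq_zero_or_pos (R.count x) with h | h
      · rw [h]; exact Nat.zero_le _
      · have hx' : x ∈ (X ^ L - C (φ s)).roots := by
          rw [mem_roots (X_pow_sub_C_ne_zero hL _), IsRoot, eval_sub, eval_pow, eval_X, eval_C,
            hx x (Multiset.count_pos.1 h), sub_self]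
        exact (hcnt x).trans (Nat.le_mul_of_pos_right _ (Multiset.count_pos.2 hx'))
    have h4 : aeval A f = 0 := by
      obtain ⟨g, hg⟩ := hdvd
      rw [hg, map_mul, hχ, Matrix.aeval_self_charpoly, zero_mul]
    haveI : CharP (Matrix ι ι F) p := charP_of_injective_algebraMap (algebraMap F (Matrix ι ι F)).injective p
    rw [hf, map_pow, map_sub, map_pow, aeval_X, aeval_C, sub_pow_char_pow_of_commute _ _
      (Algebra.commutes s (A ^ L)).symm, sub_eq_zero, ← pow_mul, ← map_pow] at h4
    rw [h4, Algebra.algebraMap_eq_smul_one]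
  rcases hcase with ⟨h1, h2⟩ | ⟨h1, h2⟩
  · exact ⟨L * p ^ c, Nat.mul_pos hL (pow_pos hp.pos _),
      ⟨_, key L 1 hL fun x hx => by rw [h1 x hx, map_one]⟩, h2⟩
  · refine ⟨1 * p ^ c, Nat.mul_pos one_pos (pow_pos hp.pos _),
      ⟨_, key 1 (-1) one_pos fun x hx => by rw [pow_one, h1 x hx, map_neg, map_one]⟩, ?_⟩
    rwa [one_mul]

/-- The bound for a quotient of a group of isometries by its centre. -/
theorem orderOf_quotient_le {Γ : Type*} [Group Γ] (f : Γ →* Matrix ι ι F) (hf : Function.Injective f)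
    (m : ℕ) (hm : 2 ≤ m)
    (hι : Fintype.card ι = 2 * m ∨ (Fintype.card ι = 2 * m + 1 ∧ Odd (Fintype.card F) ∧ 3 ≤ m))
    (J : Matrix ι ι F) (hJ : IsUnit J.det) (hA : ∀ g : Γ, (f g)ᵀ * J * f g = J)
    (g : Γ ⧸ Subgroup.center Γ) :
    (Fintype.card F - 1) * orderOf g ≤ Fintype.card F ^ (m + 1) := by
  obtain ⟨x, rfl⟩ := QuotientGroup.mk'_surjective (Subgroup.center Γ) g
  obtain ⟨N, hN, ⟨s, hs⟩, hb⟩ := exists_pow_scalar m hm hι (f x) J hJ (hA x)
  refine le_trans (Nat.mul_le_mul le_rfl (orderOf_le_of_pow_eq_one hN ?_)) hb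
  rw [← map_pow]
  refine (QuotientGroup.eq_one_iff _).2 (Subgroup.mem_center_iff.2 fun y => hf ?_)
  rw [map_mul, map_mul, map_pow, hs, smul_mul_assoc, mul_smul_comm, one_mul, mul_one]

end CfsgLib.OrderBound
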