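import Cfsg.Prelude.Def_Classical
import Cfsg.Prelude.Def_GeometricClasses
import Cfsg.Agent.Lib.Classical.OrderBound.Main
import Cfsg.Agent.Lib.Perm.Trans.QuadStd

/-!
# The order bound for isometries of quadratic forms
-/

set_option autoImplicit false

namespace CfsgLib.OrderBound

open Matrix

variable {F : Type*} [Field F] {ι : Type} [Fintype ι] [DecidableEq ι]

theorem exists_gram {Q : (ι → F) → F} (hQ : Cfsg.Geo.IsNondegenerateQuadraticForm Q) :
    ∃ J : Matrix ι ι F, IsUnit J.det ∧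
      ∀ g ∈ Cfsg.isometryGroup F Q, (g : Matrix ι ι F)ᵀ * J * (g : Matrix ι ι F) = J := by
  let B : (ι → F) →ₗ[F] (ι → F) →ₗ[F] F := LinearMap.mk₂ F (QuadraticMap.polar Q)
    hQ.polar_bilinear.add_left (fun c x v => hQ.polar_bilinear.smul_left c x v)
    hQ.polar_bilinear.add_right (fun c v x => hQ.polar_bilinear.smul_right c v x)
  refine ⟨LinearMap.toMatrix₂' F B, isUnit_iff_ne_zero.2 ?_, fun g hg => ?_⟩
  · rw [← Matrix.nondegenerate_iff_det_ne_zero, LinearMap.nondegenerate_toMatrix₂'_iff]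
    refine ⟨fun v hv => ?_, fun v hv => ?_⟩
    · by_contra hne
      obtain ⟨-, x, hx⟩ := hQ.nondegenerate v hne
      exact hx (hv x)
    · by_contra hne
      obtain ⟨⟨x, hx⟩, -⟩ := hQ.nondegenerate v hne
      exact hx (hv x)
  · have hgQ : ∀ u, Q ((g : Matrix ι ι F) *ᵥ u) = Q u := fun u => hg u u
    have h1 : B.compl₁₂ (Matrix.toLin' (g : Matrix ι ι F)) (Matrix.toLin' (g : Matrix ι ι F)) = B := by
      refine LinearMap.ext fun u => LinearMap.ext fun v => ?_
      show QuadraticMap.polar Q (Matrix.toLin' (g : Matrix ι ι F) u) (Matrix.toLin' (g : Matrix ι ι F) v) =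
        QuadraticMap.polar Q u v
      rw [toLin'_apply, toLin'_apply, QuadraticMap.polar, QuadraticMap.polar, ← mulVec_add, hgQ, hgQ, hgQ]
    have h2 := LinearMap.toMatrix₂'_compl₁₂ B (Matrix.toLin' (g : Matrix ι ι F))
      (Matrix.toLin' (g : Matrix ι ι F))
    rw [h1, LinearMap.toMatrix'_toLin'] at h2
    exact h2.symm

theorem orderOf_POmega_le [Fintype F] {Q : (ι → F) → F} (hQ : Cfsg.Geo.IsNondegenerateQuadraticForm Q)
    (m : ℕ) (hm : 2 ≤ m)
    (hι : Fintype.card ι = 2 * m ∨ (Fintype.card ι = 2 * m + 1 ∧ Odd (Fintype.card F) ∧ 3 ≤ m))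
    (g : Cfsg.POmega F Q) : (Fintype.card F - 1) * orderOf g ≤ Fintype.card F ^ (m + 1) := by
  obtain ⟨J, hJ, hA⟩ := exists_gram hQ
  refine orderOf_quotient_le ((Units.coeHom (Matrix ι ι F)).comp
    ((Cfsg.isometryGroup F Q).subtype.comp (Cfsg.Omega F Q).subtype)) ?_ m hm hι J hJ (fun x => ?_) g
  · intro a b h
    exact Subtype.ext (Subtype.ext (Units.ext h))
  · exact hA _ (x : Cfsg.isometryGroup F Q).2

end CfsgLib.OrderBound
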