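import Cfsg.Agent.Lib.Classical.OrderBound.Arith

/-!
# Multisets closed under `x ↦ x ^ q` and `x ↦ x⁻¹`
-/

set_option autoImplicit false
set_option maxHeartbeats 800000

namespace CfsgLib.OrderBound

open Finset

variable {K : Type*} [Field K] [DecidableEq K]

/-- The elements of a finite set are periodic for an injective self map. -/
theorem exists_period (T : Finset K) (q : ℕ) (hT : ∀ x ∈ T, x ^ q ∈ T)
    (hinj : Function.Injective fun x : K => x ^ q) {x : K} (hx : x ∈ T) :
    ∃ d, 0 < d ∧ x ^ q ^ d = x := by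
  have hmem : ∀ i, x ^ q ^ i ∈ T := by
    intro i
    induction i with
    | zero => simpa using hx
    | succ i ih => rw [pow_succ, pow_mul]; exact hT _ ih
  have hinji : ∀ i, Function.Injective fun y : K => y ^ q ^ i := by
    intro i
    induction i with
    | zero => intro a b h; simpa using h
    | succ i ih =>
      intro a b h
      simp only [pow_succ, pow_mul] at h
      exact ih (hinj h)
  obtain ⟨i, hi, j, hj, hne, he⟩ := Finset.exists_ne_map_eq_of_card_lt_of_maps_to
    (s := range (T.card + 1)) (t := T) (f := fun i => x ^ q ^ i) (by simp) (fun i _ => hmem i)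
  wlog hij : i < j generalizing i j
  · exact this j hj i hi hne.symm he.symm (lt_of_le_of_ne (not_lt.1 hij) hne.symm)
  refine ⟨j - i, Nat.sub_pos_of_lt hij, hinji i ?_⟩
  show (x ^ q ^ (j - i)) ^ q ^ i = x ^ q ^ i
  rw [← pow_mul, ← pow_add, Nat.sub_add_cancel hij.le]
  exact he.symm

/-- The semisimple and unipotent bound for an invariant multiset. -/
theorem exists_exponent (q p : ℕ) (hq : 2 ≤ q) (hp : p.Prime) (hpq : p ≤ q)
    (hinj : Function.Injective fun x : K => x ^ q) (hqodd : p ≠ 2 → Odd q)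
    (R : Multiset K) (h0 : (0 : K) ∉ R) (hF : R.map (fun x => x ^ q) = R) (hI : R.map (·⁻¹) = R)
    (hchar : p = 2 → (-1 : K) = 1)
    (m : ℕ) (hm : 2 ≤ m) (hn : Multiset.card R = 2 * m ∨ (Multiset.card R = 2 * m + 1 ∧ p ≠ 2 ∧ 3 ≤ m)) :
    ∃ (L c : ℕ), 0 < L ∧ (∀ x, R.count x ≤ p ^ c) ∧
      (((∀ x ∈ R, x ^ L = 1) ∧ (q - 1) * (L * p ^ c) ≤ q ^ (m + 1)) ∨
        ((∀ x ∈ R, x = -1) ∧ (q - 1) * p ^ c ≤ q ^ (m + 1))) := by
  classical
  have hq1 : 1 ≤ q := by omega
  set T := R.toFinset.filter (fun x => x ≠ 1 ∧ x ≠ -1) with hT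
  have hmemT : ∀ x, x ∈ T ↔ x ∈ R ∧ x ≠ 1 ∧ x ≠ -1 := fun x => by
    rw [hT, mem_filter, Multiset.mem_toFinset]
  have hcI : ∀ x, R.count x⁻¹ = R.count x := fun x => by
    conv_lhs => rw [← hI]
    exact Multiset.count_map_eq_count' _ _ inv_injective x
  have hcF : ∀ x, R.count (x ^ q) = R.count x := fun x => by
    conv_lhs => rw [← hF]
    exact Multiset.count_map_eq_count' _ _ hinj x
  have hmI : ∀ x ∈ R, x⁻¹ ∈ R := fun x hx => Multiset.count_pos.1 (hcI x ▸ Multiset.count_pos.2 hx)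
  have hne : ∀ x : K, x ≠ 1 ∧ x ≠ -1 → x⁻¹ ≠ 1 ∧ x⁻¹ ≠ -1 := fun x h => by
    refine ⟨fun e => h.1 (by rw [← inv_inv x, e, inv_one]), fun e => h.2 ?_⟩
    rw [← inv_inv x, e, inv_neg, inv_one]
  have hone : (fun x : K => x ^ q) 1 = 1 := one_pow q
  have hneg : ((-1 : K)) ^ q = -1 := by
    rcases eq_or_ne p 2 with h | h
    · rw [hchar h, one_pow]
    · exact (hqodd h).neg_one_pow
  have hTF : ∀ x ∈ T, x ^ q ∈ T := fun x hx => by
    obtain ⟨h1, h2, h3⟩ := (hmemT x).1 hx
    exact (hmemT _).2 ⟨Multiset.count_pos.1 (hcF x ▸ Multiset.count_pos.2 h1),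
      fun e => h2 (hinj (e.trans hone.symm)), fun e => h3 (hinj (e.trans hneg.symm))⟩
  have hTI : ∀ x ∈ T, x⁻¹ ∈ T := fun x hx => by
    obtain ⟨h1, h2⟩ := (hmemT x).1 hx
    exact (hmemT _).2 ⟨hmI x h1, hne x h2⟩
  have hTne : ∀ x ∈ T, x⁻¹ ≠ x := fun x hx e => by
    obtain ⟨h1, h2, h3⟩ := (hmemT x).1 hx
    have hx0 : x ≠ 0 := fun h => h0 (h ▸ h1)
    have : x * x = 1 := by nth_rewrite 1 [← e]; exact inv_mul_cancel₀ hx0
    rcases mul_self_eq_one_iff.1 this with h | h
    exacts [h2 h, h3 h]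
  have hTeven : Even T.card := by
    rw [← ZMod.natCast_eq_zero_iff_even]
    have : ∑ _x ∈ T, (1 : ZMod 2) = 0 :=
      sum_involution (fun x _ => x⁻¹) (fun _ _ => by decide) (fun x hx _ => hTne x hx)
        (fun x hx => hTI x hx) (fun x _ => inv_inv x)
    simpa using this
  obtain ⟨t, ht⟩ := hTeven
  have hsum : ∑ x ∈ R.toFinset, R.count x = Multiset.card R := Multiset.toFinset_sum_count_eq R
  have hTR : T ⊆ R.toFinset := filter_subset _ _
  have hTsum : ∑ x ∈ T, R.count x + ∑ x ∈ R.toFinset \ T, R.count x = Multiset.card R := by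
    rw [← hsum, ← sum_sdiff hTR, add_comm]
  have hTle : T.card ≤ ∑ x ∈ T, R.count x := by
    rw [card_eq_sum_ones]
    exact sum_le_sum fun x hx => Multiset.count_pos.2 ((hmemT x).1 hx).1
  -- multiplicities
  have hpm : ∀ x : K, (x = 1 ∨ x = -1) → R.count x + T.card ≤ Multiset.card R := by
    intro x hx
    by_cases hxR : x ∈ R
    · have : R.count x ≤ ∑ y ∈ R.toFinset \ T, R.count y := by
        refine single_le_sum (f := fun y => R.count y) (fun y _ => Nat.zero_le _) ?_
        rw [mem_sdiff, Multiset.mem_toFinset, hmemT]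
        exact ⟨hxR, fun h => hx.elim h.2.1 h.2.2⟩
      omega
    · rw [Multiset.count_eq_zero.2 hxR]; omega
  have hTm : ∀ x ∈ T, 2 * (R.count x - 1) + T.card ≤ Multiset.card R := by
    intro x hx
    have h1 : ∑ y ∈ T, (R.count y - 1) + T.card = ∑ y ∈ T, R.count y := by
      rw [card_eq_sum_ones, ← sum_add_distrib]
      exact sum_congr rfl fun y hy => Nat.sub_add_cancel (Multiset.count_pos.2 ((hmemT y).1 hy).1)
    have h2 : ∑ y ∈ ({x, x⁻¹} : Finset K), (R.count y - 1) ≤ ∑ y ∈ T, (R.count y - 1) := by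
      refine sum_le_sum_of_subset fun y hy => ?_
      rcases mem_insert.1 hy with rfl | hy
      · exact hx
      · exact (mem_singleton.1 hy) ▸ hTI x hx
    rw [sum_pair (hTne x hx).symm, hcI] at h2
    omega
  rcases eq_or_ne T ∅ with hTe | hTe
  · have hsmall : ∀ x ∈ R, x = 1 ∨ x = -1 := fun x hx => by
      by_contra hc
      push Not at hc
      have : x ∈ T := (hmemT x).2 ⟨hx, hc⟩
      rw [hTe] at this
      exact notMem_empty x this
    have hcount : ∀ x, R.count x ≤ Multiset.card R := fun x => Multiset.count_le_card _ _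
    have hpw : Multiset.card R ≤ p ^ m := by
      rcases hn with h | ⟨h, hp2, -⟩
      · rw [h]
        exact (two_mul_le_pow m).trans (Nat.pow_le_pow_left hp.two_le _)
      · rw [h]
        exact le_pow_odd (by have := hp.two_le; omega) m
    have hbig : (q - 1) * p ^ m ≤ q ^ (m + 1) := by
      rw [pow_succ', ]
      exact Nat.mul_le_mul (Nat.sub_le _ _) (Nat.pow_le_pow_left hpq _)
    by_cases hall1 : ∀ x ∈ R, x = 1
    · exact ⟨1, m, one_pos, fun x => (hcount x).trans hpw, Or.inl ⟨fun x hx => by rw [hall1 x hx, one_pow],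
        by rwa [one_mul]⟩⟩
    by_cases halln : ∀ x ∈ R, x = -1
    · exact ⟨1, m, one_pos, fun x => (hcount x).trans hpw, Or.inr ⟨halln, hbig⟩⟩
    push Not at hall1 halln
    obtain ⟨y, hyR, hy1⟩ := hall1
    obtain ⟨z, hzR, hzn⟩ := halln
    have hy : y = -1 := (hsmall y hyR).resolve_left hy1
    have hz : z = 1 := (hsmall z hzR).resolve_right hzn
    have hne1 : (-1 : K) ≠ 1 := hy ▸ hy1
    have hp3 : 3 ≤ p := by
      have := hp.two_le
      rcases eq_or_ne p 2 with h | h
      · exact absurd (hchar h) hne1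
      · omega
    have hlt : ∀ x, R.count x ≤ Multiset.card R - 1 := by
      intro x
      obtain ⟨w, hwR, hwx⟩ : ∃ w ∈ R, w ≠ x := by
        rcases eq_or_ne x 1 with rfl | h
        · exact ⟨y, hyR, hy1⟩
        · exact ⟨z, hzR, hz ▸ h.symm⟩
      have h1 : R.count x + R.count w ≤ Multiset.card R := by
        by_cases hxR : x ∈ R
        · rw [← hsum, ← sum_pair (f := fun v => R.count v) hwx.symm]
          refine sum_le_sum_of_subset fun v hv => Multiset.mem_toFinset.2 ?_
          rcases mem_insert.1 hv with rfl | hv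
          · exact hxR
          · exact (mem_singleton.1 hv) ▸ hwR
        · rw [Multiset.count_eq_zero.2 hxR, zero_add]; exact hcount w
      have := Multiset.count_pos.2 hwR
      omega
    refine ⟨2, m - 1, two_pos, fun x => (hlt x).trans ?_, Or.inl ⟨fun x hx => ?_, ?_⟩⟩
    · rcases hn with h | ⟨h, -, h3⟩
      · have := le_pow_odd hp3 (m - 1); omega
      · have := two_mul_le_pow_pred hp3 (m - 1) (by omega)
        rw [show m - 1 + 1 = m by omega] at this
        omega
    · rcases hsmall x hx with rfl | rfl <;> simp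
    · calc (q - 1) * (2 * p ^ (m - 1)) ≤ q * (q * q ^ (m - 1)) :=
            Nat.mul_le_mul (Nat.sub_le _ _) (Nat.mul_le_mul hq (Nat.pow_le_pow_left hpq _))
        _ = q ^ (m + 1) := by rw [← pow_succ', ← pow_succ']; congr 1; omega
  -- the semisimple part
  have hper : ∀ x ∈ T, ∃ d, 0 < d ∧ x ^ q ^ d = x := fun x hx => exists_period T q hTF hinj hx
  let per : K → ℕ := fun x => if h : ∃ d, 0 < d ∧ x ^ q ^ d = x then Nat.find h else 0
  have hper1 : ∀ x ∈ T, 0 < per x ∧ x ^ q ^ per x = x ∧ ∀ d, 0 < d → x ^ q ^ d = x → per x ≤ d := by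
    intro x hx
    simp only [per, dif_pos (hper x hx)]
    exact ⟨(Nat.find_spec (hper x hx)).1, (Nat.find_spec (hper x hx)).2,
      fun d h1 h2 => Nat.find_le ⟨h1, h2⟩⟩
  have hinji : ∀ i, Function.Injective fun y : K => y ^ q ^ i := by
    intro i
    induction i with
    | zero => intro a b h; simpa using h
    | succ i ih =>
      intro a b h
      simp only [pow_succ, pow_mul] at h
      exact ih (hinj h)
  have hmul : ∀ x ∈ T, ∀ k, x ^ q ^ (k * per x) = x := by
    intro x hx k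
    induction k with
    | zero => simp
    | succ k ih => rw [Nat.succ_mul, pow_add, pow_mul, ih, (hper1 x hx).2.1]
  have hmod : ∀ x ∈ T, ∀ i, x ^ q ^ i = x ^ q ^ (i % per x) := by
    intro x hx i
    conv_lhs => rw [← Nat.mod_add_div i (per x), add_comm, pow_add, pow_mul, mul_comm (per x), hmul x hx]
  have hTFi : ∀ x ∈ T, ∀ i, x ^ q ^ i ∈ T := by
    intro x hx i
    induction i with
    | zero => simpa using hx
    | succ i ih => rw [pow_succ, pow_mul]; exact hTF _ ih
  have hperF : ∀ x ∈ T, ∀ i, per (x ^ q ^ i) = per x := by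
    intro x hx i
    have key : ∀ d, (x ^ q ^ i) ^ q ^ d = x ^ q ^ i ↔ x ^ q ^ d = x := fun d => by
      rw [← pow_mul, mul_comm, pow_mul]
      exact (hinji i).eq_iff
    obtain ⟨a1, a2, a3⟩ := hper1 x hx
    obtain ⟨b1, b2, b3⟩ := hper1 _ (hTFi x hx i)
    exact le_antisymm (b3 _ a1 ((key _).2 a2)) (a3 _ b1 ((key _).1 b2))
  have hperI : ∀ x ∈ T, per x⁻¹ = per x := by
    intro x hx
    have key : ∀ d, x⁻¹ ^ q ^ d = x⁻¹ ↔ x ^ q ^ d = x := fun d => by rw [inv_pow, inv_inj]
    obtain ⟨a1, a2, a3⟩ := hper1 x hx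
    obtain ⟨b1, b2, b3⟩ := hper1 _ (hTI x hx)
    exact le_antisymm (b3 _ a1 ((key _).2 a2)) (a3 _ b1 ((key _).1 b2))
  let Inv : K → Prop := fun x => ∃ j, x ^ q ^ j = x⁻¹
  have hInvF : ∀ x ∈ T, ∀ i, Inv (x ^ q ^ i) ↔ Inv x := by
    intro x hx i
    refine exists_congr fun j => ?_
    rw [← pow_mul, mul_comm, pow_mul, ← inv_pow]
    exact (hinji i).eq_iff
  have hInvI : ∀ x : K, Inv x⁻¹ ↔ Inv x := fun x => exists_congr fun j => by rw [inv_pow, inv_inj]
  have horb : ∀ x ∈ T, Set.InjOn (fun i => x ^ q ^ i) ↑(range (per x)) := by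
    intro x hx i hi j hj he
    simp only [coe_range, Set.mem_Iio] at hi hj
    obtain ⟨a1, a2, a3⟩ := hper1 x hx
    rcases lt_trichotomy i j with h | h | h
    · have := a3 (j - i) (by omega) (hinji i (by
        show (x ^ q ^ (j - i)) ^ q ^ i = x ^ q ^ i
        rw [← pow_mul, ← pow_add, Nat.sub_add_cancel h.le]; exact he.symm))
      omega
    · exact h
    · have := a3 (i - j) (by omega) (hinji j (by
        show (x ^ q ^ (i - j)) ^ q ^ j = x ^ q ^ j
        rw [← pow_mul, ← pow_add, Nat.sub_add_cancel h.le]; exact he))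
      omega
  have hhalf : ∀ x ∈ T, Inv x → per x = 2 * (per x / 2) ∧ x ^ (q ^ (per x / 2) + 1) = 1 := by
    intro x hx hxi
    obtain ⟨j, hj⟩ := hxi
    obtain ⟨a1, a2, a3⟩ := hper1 x hx
    rw [hmod x hx] at hj
    set i := j % per x with hi
    have hilt : i < per x := Nat.mod_lt _ a1
    have hi0 : i ≠ 0 := fun h => hTne x hx (by rw [← hj, h, pow_zero, pow_one])
    have h2i : x ^ q ^ (2 * i) = x := by rw [two_mul, pow_add, pow_mul, hj, inv_pow, hj, inv_inv]
    have h2 : per x = 2 * i := by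
      have hmod2 : (2 * i) % per x = 0 := by
        by_contra hc
        have := a3 _ (Nat.pos_of_ne_zero hc) ((hmod x hx _).symm.trans h2i)
        have := Nat.mod_lt (2 * i) a1
        omega
      obtain ⟨r, hr⟩ := Nat.dvd_of_mod_eq_zero hmod2
      rcases r with _ | _ | r
      · omega
      · omega
      · nlinarith
    have h3 : per x / 2 = i := by omega
    have hx0 : x ≠ 0 := fun h => h0 (h ▸ ((hmemT x).1 hx).1)
    exact ⟨by omega, by rw [h3, pow_succ, hj, inv_mul_cancel₀ hx0]⟩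
  have hfull : ∀ x ∈ T, x ^ (q ^ per x - 1) = 1 := by
    intro x hx
    have hx0 : x ≠ 0 := fun h => h0 (h ▸ ((hmemT x).1 hx).1)
    refine mul_right_cancel₀ hx0 ?_
    rw [← pow_succ, Nat.sub_add_cancel (Nat.one_le_pow _ _ hq1), (hper1 x hx).2.1, one_mul]
  set TA := T.filter Inv with hTA
  set TB := T.filter (fun x => ¬ Inv x) with hTB
  set A := TA.image (fun x => per x / 2) with hA
  set B := TB.image per with hB
  have hAsum : 2 * ∑ k ∈ A, k ≤ TA.card := by
    rw [card_eq_sum_card_image (fun x => per x / 2) TA, mul_sum, ← hA]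
    refine sum_le_sum fun k hk => ?_
    obtain ⟨x, hx, rfl⟩ := mem_image.1 hk
    obtain ⟨hxT, hxi⟩ := mem_filter.1 hx
    refine le_trans (le_of_eq ?_) (card_le_card
      (show (range (per x)).image (fun i => x ^ q ^ i) ⊆ TA.filter (fun y => per y / 2 = per x / 2) from ?_))
    · rw [card_image_of_injOn (horb x hxT), card_range]
      exact (hhalf x hxT hxi).1.symm
    · intro y hy
      obtain ⟨i, -, rfl⟩ := mem_image.1 hy
      refine mem_filter.2 ⟨mem_filter.2 ⟨hTFi x hxT i, (hInvF x hxT i).2 hxi⟩, ?_⟩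
      rw [hperF x hxT i]
  have hBsum : 2 * ∑ k ∈ B, k ≤ TB.card := by
    rw [card_eq_sum_card_image per TB, mul_sum, ← hB]
    refine sum_le_sum fun k hk => ?_
    obtain ⟨x, hx, rfl⟩ := mem_image.1 hk
    obtain ⟨hxT, hxi⟩ := mem_filter.1 hx
    set O := (range (per x)).image (fun i => x ^ q ^ i) with hO
    have hO' : O.card = per x := by rw [hO, card_image_of_injOn (horb x hxT), card_range]
    have hdisj : Disjoint O (O.image (·⁻¹)) := by
      refine disjoint_left.2 fun y hy hy' => hxi ?_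
      obtain ⟨i, hi, rfl⟩ := mem_image.1 hy
      obtain ⟨w, hw, he⟩ := mem_image.1 hy'
      obtain ⟨j, hj, rfl⟩ := mem_image.1 hw
      have hi' := mem_range.1 hi
      refine ⟨i + (per x - j % per x), ?_⟩
      have hjlt := mem_range.1 hj
      rw [pow_add, pow_mul, ← he, inv_pow, inv_inj, ← pow_mul, ← pow_add, Nat.mod_eq_of_lt hjlt,
        Nat.add_sub_cancel' hjlt.le]
      exact (hper1 x hxT).2.1
    refine le_trans (le_of_eq ?_) (card_le_card
      (show O ∪ O.image (·⁻¹) ⊆ TB.filter (fun y => per y = per x) from ?_))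
    · rw [card_union_of_disjoint hdisj, card_image_of_injective _ inv_injective, hO']
      ring
    · intro y hy
      rcases mem_union.1 hy with hy | hy
      · obtain ⟨i, -, rfl⟩ := mem_image.1 hy
        exact mem_filter.2 ⟨mem_filter.2 ⟨hTFi x hxT i, fun h => hxi ((hInvF x hxT i).1 h)⟩, hperF x hxT i⟩
      · obtain ⟨w, hw, rfl⟩ := mem_image.1 hy
        obtain ⟨i, -, rfl⟩ := mem_image.1 hw
        refine mem_filter.2 ⟨mem_filter.2 ⟨hTI _ (hTFi x hxT i),
          fun h => hxi ((hInvF x hxT i).1 ((hInvI _).1 h))⟩, ?_⟩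
        rw [hperI _ (hTFi x hxT i), hperF x hxT i]
  have hcardT : TA.card + TB.card = T.card := card_filter_add_card_filter_not (s := T) Inv
  obtain ⟨L, hL0, hLA, hLB, hLle⟩ := exists_common_multiple q hq A B
    (fun k hk => by
      obtain ⟨x, hx, rfl⟩ := mem_image.1 hk
      obtain ⟨hxT, hxi⟩ := mem_filter.1 hx
      have := (hhalf x hxT hxi).1
      have := (hper1 x hxT).1
      omega)
    (fun k hk => by
      obtain ⟨x, hx, rfl⟩ := mem_image.1 hk
      exact (hper1 x (mem_filter.1 hx).1).1.ne')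
  have hTL : ∀ x ∈ T, x ^ L = 1 := by
    intro x hx
    by_cases hxi : Inv x
    · obtain ⟨r, hr⟩ := hLA _ (mem_image_of_mem _ (mem_filter.2 ⟨hx, hxi⟩ : x ∈ TA))
      rw [hr, pow_mul, (hhalf x hx hxi).2, one_pow]
    · obtain ⟨r, hr⟩ := hLB _ (mem_image_of_mem per (mem_filter.2 ⟨hx, hxi⟩ : x ∈ TB))
      rw [hr, pow_mul, hfull x hx, one_pow]
  have hnegL : (-1 : K) ^ L = 1 := by
    rcases eq_or_ne p 2 with h | h
    · rw [hchar h, one_pow]
    · have hqo := hqodd h
      obtain ⟨x, hx⟩ := Finset.nonempty_of_ne_empty hTe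
      have h2 : 2 ∣ L := by
        by_cases hxi : Inv x
        · refine dvd_trans ?_ (hLA _ (mem_image_of_mem _ (mem_filter.2 ⟨hx, hxi⟩ : x ∈ TA)))
          exact even_iff_two_dvd.1 (hqo.pow.add_odd odd_one)
        · refine dvd_trans ?_ (hLB _ (mem_image_of_mem per (mem_filter.2 ⟨hx, hxi⟩ : x ∈ TB)))
          exact even_iff_two_dvd.1 (Nat.Odd.sub_odd hqo.pow odd_one)
      obtain ⟨r, hr⟩ := h2
      rw [hr, pow_mul, neg_one_sq, one_pow]
  set c := (Multiset.card R - T.card) / 2 with hc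
  refine ⟨L, c, hL0, fun x => ?_, Or.inl ⟨fun x hx => ?_, ?_⟩⟩
  · by_cases hxR : x ∈ R
    · by_cases hxT : x ∈ T
      · have h1 := hTm x hxT
        have h2 := Multiset.count_pos.2 hxR
        exact le_trans (by omega) (succ_le_pow hp.two_le c)
      · have hx' : x = 1 ∨ x = -1 := by
          by_contra hh
          push Not at hh
          exact hxT ((hmemT x).2 ⟨hxR, hh⟩)
        have h1 := hpm x hx'
        rcases eq_or_ne p 2 with h | h
        · rcases hn with hn | ⟨-, h2, -⟩
          · subst h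
            exact le_trans (by omega) (two_mul_le_pow c)
          · exact absurd h h2
        · exact le_trans (by omega) (le_pow_odd (p := p) (by have := hp.two_le; omega) c)
    · rw [Multiset.count_eq_zero.2 hxR]; exact Nat.zero_le _
  · by_cases hxT : x ∈ T
    · exact hTL x hxT
    · have hx' : x = 1 ∨ x = -1 := by
        by_contra hh
        push Not at hh
        exact hxT ((hmemT x).2 ⟨hx, hh⟩)
      rcases hx' with rfl | rfl
      exacts [one_pow _, hnegL]
  · calc (q - 1) * (L * p ^ c) = (q - 1) * L * p ^ c := by ring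
      _ ≤ q ^ (1 + (∑ k ∈ A, k + ∑ k ∈ B, k)) * q ^ c :=
          Nat.mul_le_mul hLle (Nat.pow_le_pow_left hpq _)
      _ ≤ q ^ (m + 1) := by
          rw [← pow_add]
          refine Nat.pow_le_pow_right (by omega) ?_
          rcases hn with hn | ⟨hn, -, -⟩ <;> omega

end CfsgLib.OrderBound
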