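import Mathlib

/-!
# Orbits of `x ↦ x ^ (-q)`: the arithmetic of unitary element orders
-/

set_option autoImplicit false

namespace CfsgLib.OrderBound.Unit

open Finset

/-- `M q k = |1 + (-q) + … + (-q)^(k-1)|`. -/
def M (q k : ℕ) : ℕ := (∑ i ∈ range k, (-(q : ℤ)) ^ i).natAbs

theorem mul_M (q k : ℕ) : (q + 1) * M q k = ((-(q : ℤ)) ^ k - 1).natAbs := by
  rw [← geom_sum_mul, Int.natAbs_mul, mul_comm]
  congr 1
  rw [show -(q : ℤ) - 1 = -(((q + 1 : ℕ)) : ℤ) by push_cast; ring, Int.natAbs_neg, Int.natAbs_natCast]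

theorem mul_M_odd (q : ℕ) {k : ℕ} (hk : Odd k) : (q + 1) * M q k = q ^ k + 1 := by
  rw [mul_M, hk.neg_pow, show -(q : ℤ) ^ k - 1 = -(((q ^ k + 1 : ℕ)) : ℤ) by push_cast; ring,
    Int.natAbs_neg, Int.natAbs_natCast]

theorem mul_M_even (q : ℕ) (hq : 1 ≤ q) {k : ℕ} (hk : Even k) : (q + 1) * M q k + 1 = q ^ k := by
  rw [mul_M, hk.neg_pow]
  have h1 : 1 ≤ q ^ k := Nat.one_le_pow _ _ hq
  rw [show (q : ℤ) ^ k - 1 = (((q ^ k - 1 : ℕ)) : ℤ) by rw [Nat.cast_sub h1]; push_cast; ring,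
    Int.natAbs_natCast]
  omega

theorem M_one (q : ℕ) : M q 1 = 1 := by simp [M]

theorem mul_M_le (q : ℕ) (hq : 1 ≤ q) (k : ℕ) : (q + 1) * M q k ≤ q ^ k + 1 := by
  rcases Nat.even_or_odd k with h | h
  · have := mul_M_even q hq h; omega
  · rw [mul_M_odd q h]

theorem M_pos (q : ℕ) (hq : 2 ≤ q) {k : ℕ} (hk : 1 ≤ k) : 0 < M q k := by
  rcases Nat.eq_zero_or_pos (M q k) with h | h
  · exfalso
    rcases Nat.even_or_odd k with he | he
    · have h1 := mul_M_even q (by omega) he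
      have : q ^ 1 ≤ q ^ k := Nat.pow_le_pow_right (by omega) hk
      rw [h, mul_zero, zero_add] at h1
      rw [pow_one] at this
      omega
    · have h1 := mul_M_odd q he
      rw [h, mul_zero] at h1
      omega
  · exact h

theorem M_le (q : ℕ) (hq : 2 ≤ q) {k : ℕ} (hk : 1 ≤ k) : M q k ≤ q ^ (k - 1) := by
  suffices h : (q + 1) * M q k ≤ (q + 1) * q ^ (k - 1) from Nat.le_of_mul_le_mul_left h (Nat.succ_pos q)
  refine (mul_M_le q (by omega) k).trans ?_
  obtain ⟨l, rfl⟩ : ∃ l, k = l + 1 := ⟨k - 1, by omega⟩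
  rw [Nat.add_sub_cancel, pow_succ]
  have : 1 ≤ q ^ l := Nat.one_le_pow _ _ (by omega)
  nlinarith

/-- The possible shapes of the bound on projective element orders. -/
def Good (q p d N : ℕ) : Prop :=
  N ≤ q ^ (d - 1) - 1 ∨ (Even d ∧ N ≤ q ^ (d - 1) + 1) ∨ (Odd d ∧ N ≤ p * (q ^ (d - 2) + 1)) ∨
    (q = 2 ∧ Even d ∧ N ≤ 4 * (2 ^ (d - 3) + 1)) ∨ (q = 2 ∧ N ≤ 2 ^ (d - 1) + 2)

theorem succ_mul_pow_le (q : ℕ) (hq : 2 ≤ q) {d e : ℕ} (hd : 3 ≤ d) (he : e + 3 ≤ d) :
    (q + 1) * q ^ e ≤ q ^ (d - 1) - 1 := by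
  obtain ⟨n, rfl⟩ : ∃ n, d = e + 3 + n := ⟨d - (e + 3), by omega⟩
  have h1 : q ^ (e + 2) ≤ q ^ (e + 3 + n - 1) := Nat.pow_le_pow_right (by omega) (by omega)
  have h2 : 1 ≤ q ^ e := Nat.one_le_pow _ _ (by omega)
  have h3 : (q + 1) * q ^ e + 1 ≤ q ^ (e + 2) := by
    have h4 : (q + 2) * q ^ e ≤ q ^ 2 * q ^ e := Nat.mul_le_mul_right _ (by nlinarith)
    rw [pow_add]; linarith
  omega

theorem le_pow_pred {q : ℕ} (hq : 2 ≤ q) : ∀ j, j ≤ q ^ (j - 1)
  | 0 => Nat.zero_le _
  | 1 => by simp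
  | j + 2 => by
    have ih := le_pow_pred hq (j + 1)
    simp only [Nat.add_sub_cancel] at ih
    rw [show j + 2 - 1 = j + 1 by omega, pow_succ]
    nlinarith

/-- The exponent of the unipotent part. -/
theorem clog_bound {p q : ℕ} (hp : 2 ≤ p) (hpq : p ≤ q) (j : ℕ) :
    j + 1 ≤ p ^ Nat.clog p (j + 1) ∧ (1 ≤ j → p ^ Nat.clog p (j + 1) ≤ p * j) ∧
      p ^ Nat.clog p (j + 1) ≤ q ^ j := by
  have h1 : j + 1 ≤ p ^ Nat.clog p (j + 1) := Nat.le_pow_clog hp _
  have h2 : 1 ≤ j → p ^ Nat.clog p (j + 1) ≤ p * j := by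
    intro hj
    have h3 := Nat.pow_pred_clog_lt_self hp (show 1 < j + 1 by omega)
    have h4 : 0 < Nat.clog p (j + 1) := Nat.clog_pos hp (by omega)
    calc p ^ Nat.clog p (j + 1) = p * p ^ (Nat.clog p (j + 1)).pred := by
          rw [← pow_succ']; congr 1; rw [Nat.pred_eq_sub_one]; omega
      _ ≤ p * j := Nat.mul_le_mul_left _ (by omega)
  refine ⟨h1, h2, ?_⟩
  rcases Nat.eq_zero_or_pos j with rfl | hj
  · simp
  · calc p ^ Nat.clog p (j + 1) ≤ p * j := h2 hj
      _ ≤ q * q ^ (j - 1) := Nat.mul_le_mul hpq (le_pow_pred (by omega) j)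
      _ = q ^ j := by rw [← pow_succ']; congr 1; omega

theorem good_semi (q p : ℕ) (hq : 2 ≤ q) {d a b : ℕ} (hd : 3 ≤ d) (ha : 1 ≤ a) (hb : 1 ≤ b)
    (hab : a + b = d) : Good q p d ((q + 1) * M q a * M q b) := by
  have hq1 : 1 ≤ q := by omega
  -- an even part
  have heven : ∀ a b, 1 ≤ b → a + b = d → Even a →
      (q + 1) * M q a * M q b + q ^ (b - 1) ≤ q ^ (d - 1) := by
    intro a b hb hab he
    have h1 := mul_M_even q hq1 he
    calc (q + 1) * M q a * M q b + q ^ (b - 1)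
        ≤ (q + 1) * M q a * q ^ (b - 1) + q ^ (b - 1) :=
          Nat.add_le_add_right (Nat.mul_le_mul_left _ (M_le q hq hb)) _
      _ = ((q + 1) * M q a + 1) * q ^ (b - 1) := by ring
      _ = q ^ (d - 1) := by rw [h1, ← pow_add]; congr 1; omega
  have hcomm : (q + 1) * M q a * M q b = (q + 1) * M q b * M q a := by ring
  rcases Nat.even_or_odd a with hae | hao
  · left
    have := heven a b hb hab hae
    have h1 : 1 ≤ q ^ (b - 1) := Nat.one_le_pow _ _ hq1
    omega
  rcases Nat.even_or_odd b with hbe | hbo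
  · left
    have := heven b a ha (by omega) hbe
    have h1 : 1 ≤ q ^ (a - 1) := Nat.one_le_pow _ _ hq1
    omega
  refine Or.inr (Or.inl ⟨hab ▸ hao.add_odd hbo, ?_⟩)
  rcases eq_or_ne a 1 with rfl | ha1
  · rw [M_one, mul_one, mul_M_odd q hbo, show d - 1 = b by omega]
  rcases eq_or_ne b 1 with rfl | hb1
  · rw [M_one, mul_one, mul_M_odd q hao, show d - 1 = a by omega]
  have ha3 : 2 ≤ a := by omega
  have hb3 : 2 ≤ b := by omega
  suffices h : (q + 1) * ((q + 1) * M q a * M q b) ≤ (q + 1) * (q ^ (d - 1) + 1) from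
    Nat.le_of_mul_le_mul_left h (Nat.succ_pos q)
  rw [show (q + 1) * ((q + 1) * M q a * M q b) = ((q + 1) * M q a) * ((q + 1) * M q b) by ring,
    mul_M_odd q hao, mul_M_odd q hbo]
  have hd' : q ^ (d - 1) * q = q ^ a * q ^ b := by
    rw [← pow_succ, ← pow_add]; congr 1; omega
  have hA : q * q ^ a ≤ q ^ (d - 1) := by
    rw [← pow_succ']; exact Nat.pow_le_pow_right hq1 (by omega)
  have hB : q * q ^ b ≤ q ^ (d - 1) := by
    rw [← pow_succ']; exact Nat.pow_le_pow_right hq1 (by omega)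
  have hA2 : 2 * q ^ a ≤ q * q ^ a := Nat.mul_le_mul_right _ hq
  have hB2 : 2 * q ^ b ≤ q * q ^ b := Nat.mul_le_mul_right _ hq
  linarith

theorem good_one (q p : ℕ) (hq : 2 ≤ q) (hp : 2 ≤ p) (hpq : p ≤ q) {d k m : ℕ} (hd : 3 ≤ d)
    (h32 : ¬ (d = 3 ∧ q = 2)) (hk : 1 ≤ k) (hkm : k * m = d) :
    Good q p d (M q k * p ^ Nat.clog p m) := by
  left
  have hq1 : 1 ≤ q := by omega
  have hm : 1 ≤ m := by
    rcases Nat.eq_zero_or_pos m with rfl | h
    · rw [mul_zero] at hkm; omega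
    · exact h
  have hsq : q + 2 ≤ q * q := by nlinarith
  rcases eq_or_ne m 1 with rfl | hm1
  · rw [Nat.clog_one_right, pow_zero, mul_one]
    rw [mul_one] at hkm
    subst hkm
    have h1 := mul_M_le q hq1 k
    have h2 : q * q ≤ q ^ (k - 1) := by
      rw [← sq]; exact Nat.pow_le_pow_right hq1 (by omega)
    have h3 : q ^ k = q * q ^ (k - 1) := by rw [← pow_succ']; congr 1; omega
    by_contra hc
    have h4 : q ^ (k - 1) ≤ M q k := by omega
    have h5 := Nat.mul_le_mul_left (q + 1) h4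
    nlinarith
  obtain ⟨j, rfl⟩ : ∃ j, m = j + 1 := ⟨m - 1, by omega⟩
  obtain ⟨-, h2, h3⟩ := clog_bound hp hpq j
  rcases eq_or_ne k 1 with rfl | hk1
  · rw [M_one, one_mul]
    rw [one_mul] at hkm
    subst hkm
    refine (h2 (by omega)).trans ?_
    rw [Nat.add_sub_cancel]
    obtain ⟨i, rfl⟩ : ∃ i, j = i + 2 := ⟨j - 2, by omega⟩
    have key : ∀ i, ¬ (i = 0 ∧ q = 2) → i + 3 ≤ q ^ (i + 1) := by
      intro i
      induction i with
      | zero => intro h; simp only [zero_add, pow_one]; omega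
      | succ i ih =>
        intro _
        rcases eq_or_ne i 0 with rfl | hi
        · rw [pow_two]; omega
        · have := ih (fun h => hi h.1)
          rw [pow_succ]
          nlinarith
    have := key i (fun h => h32 ⟨by omega, h.2⟩)
    rw [pow_succ']
    have h5 : p * (i + 2) + q ≤ q * q ^ (i + 1) :=
      calc p * (i + 2) + q ≤ q * (i + 2) + q := Nat.add_le_add_right (Nat.mul_le_mul_right _ hpq) _
        _ = q * (i + 3) := by ring
        _ ≤ _ := Nat.mul_le_mul_left _ this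
    omega
  · refine le_trans (Nat.mul_le_mul (M_le q hq hk) h3) ?_
    rw [← pow_add]
    have h5 : k + (j + 1) ≤ d := by
      obtain ⟨k', rfl⟩ : ∃ k', k = k' + 2 := ⟨k - 2, by omega⟩
      obtain ⟨j', rfl⟩ : ∃ j', j = j' + 1 := ⟨j - 1, by omega⟩
      rw [← hkm, show (k' + 2) * (j' + 1 + 1) = k' * j' + 2 * k' + 2 * j' + 4 by ring]
      omega
    have h6 : q ^ (k - 1 + j) ≤ q ^ (d - 2) := Nat.pow_le_pow_right hq1 (by omega)
    have h7 : q ^ (d - 1) = q * q ^ (d - 2) := by rw [← pow_succ']; congr 1; omega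
    have h8 : 1 ≤ q ^ (d - 2) := Nat.one_le_pow _ _ hq1
    have h9 : 2 * q ^ (d - 2) ≤ q * q ^ (d - 2) := Nat.mul_le_mul_right _ hq
    omega

/-- A repeated eigenvalue of norm one together with one further orbit. -/
theorem good_point (q p : ℕ) (hq : 2 ≤ q) (hp : 2 ≤ p) (hpq : p ≤ q) {d b j : ℕ}
    (hb : 1 ≤ b) (hj : 1 ≤ j) (hbj : b + j + 1 ≤ d) :
    Good q p d ((q + 1) * M q b * p ^ Nat.clog p (j + 1)) := by
  have hq1 : 1 ≤ q := by omega
  have hN := mul_M_le q hq1 b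
  obtain ⟨-, h2, -⟩ := clog_bound hp hpq j
  have hP := h2 hj
  rcases eq_or_ne j 1 with rfl | hj1
  · rw [mul_one] at hP
    rcases eq_or_ne (b + 2) d with hbd | hbd
    · rcases Nat.even_or_odd d with hde | hdo
      · refine Or.inr (Or.inl ⟨hde, ?_⟩)
        have hbe : Even b := by
          rw [← hbd, Nat.even_add] at hde
          exact hde.2 (by decide)
        have h1 := mul_M_even q hq1 hbe
        calc (q + 1) * M q b * p ^ Nat.clog p (1 + 1) ≤ q ^ b * q := Nat.mul_le_mul (by omega) (hP.trans hpq)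
          _ = q ^ (d - 1) := by rw [← pow_succ]; congr 1; omega
          _ ≤ _ := Nat.le_succ _
      · refine Or.inr (Or.inr (Or.inl ⟨hdo, ?_⟩))
        rw [mul_comm p, show d - 2 = b by omega]
        exact Nat.mul_le_mul hN hP
    · left
      have h1 : q ^ (b + 1) + q + 1 ≤ q ^ (d - 1) := by
        have h3 : q ^ (b + 2) ≤ q ^ (d - 1) := Nat.pow_le_pow_right hq1 (by omega)
        have h4 : q * q ≤ q ^ (b + 1) := by rw [← sq]; exact Nat.pow_le_pow_right hq1 (by omega)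
        rw [pow_succ' q (b + 1)] at h3
        nlinarith
      calc (q + 1) * M q b * p ^ Nat.clog p (1 + 1) ≤ (q ^ b + 1) * q := Nat.mul_le_mul hN (hP.trans hpq)
        _ = q ^ (b + 1) + q := by ring
        _ ≤ _ := by omega
  · have hj2 : 2 ≤ j := by omega
    have hd4 : 4 ≤ d := by omega
    rcases eq_or_ne q 2 with rfl | hq2
    · have hp2 : p = 2 := by omega
      subst hp2
      rcases eq_or_ne j 2 with rfl | hj3
      · have h4 : 2 ^ Nat.clog 2 (2 + 1) ≤ 4 := by simpa using hP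
        have hprod := Nat.mul_le_mul hN h4
        rcases Nat.even_or_odd d with hde | hdo
        · refine Or.inr (Or.inr (Or.inr (Or.inl ⟨rfl, hde, hprod.trans ?_⟩)))
          have : 2 ^ b ≤ 2 ^ (d - 3) := Nat.pow_le_pow_right (by norm_num) (by omega)
          omega
        · refine Or.inr (Or.inr (Or.inr (Or.inr ⟨rfl, ?_⟩)))
          rcases eq_or_ne (b + 3) d with hbd | hbd
          · have hbe : Even b := by
              rw [← hbd] at hdo
              rcases Nat.even_or_odd b with h | h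
              · exact h
              · exact absurd (h.add_odd (by decide : Odd 3)) (Nat.not_even_iff_odd.2 hdo)
            have h1 := mul_M_even 2 (by norm_num) hbe
            calc (2 + 1) * M 2 b * 2 ^ Nat.clog 2 (2 + 1) ≤ 2 ^ b * 4 := Nat.mul_le_mul (by omega) h4
              _ = 2 ^ (d - 1) := by rw [show (4 : ℕ) = 2 ^ 2 from rfl, ← pow_add]; congr 1; omega
              _ ≤ _ := Nat.le_add_right _ _
          · refine hprod.trans ?_
            have h6 : 2 ^ (b + 3) ≤ 2 ^ (d - 1) := Nat.pow_le_pow_right (by norm_num) (by omega)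
            have h7 : 2 ≤ 2 ^ b := le_trans (by norm_num) (Nat.pow_le_pow_right (by norm_num : 1 ≤ 2) hb)
            rw [pow_add] at h6
            omega
      · refine Or.inr (Or.inr (Or.inr (Or.inr ⟨rfl, ?_⟩)))
        refine (Nat.mul_le_mul hN hP).trans ?_
        have key : ∀ j, 3 ≤ j → (2 ^ b + 1) * (2 * j) ≤ 2 ^ (b + j) + 2 := by
          intro j hj
          induction j, hj using Nat.le_induction with
          | base =>
            have h7 : 2 ≤ 2 ^ b := le_trans (by norm_num) (Nat.pow_le_pow_right (by norm_num : 1 ≤ 2) hb)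
            rw [pow_add]; omega
          | succ j hj ih =>
            have h8 : 2 ^ b * 8 ≤ 2 ^ (b + j) := by
              rw [show (8 : ℕ) = 2 ^ 3 from rfl, ← pow_add]; exact Nat.pow_le_pow_right (by norm_num) (by omega)
            have h7 : 2 ≤ 2 ^ b := le_trans (by norm_num) (Nat.pow_le_pow_right (by norm_num : 1 ≤ 2) hb)
            rw [← add_assoc, pow_succ]
            nlinarith
        refine (key j (by omega)).trans ?_
        have : 2 ^ (b + j) ≤ 2 ^ (d - 1) := Nat.pow_le_pow_right (by norm_num) (by omega)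
        omega
    · left
      have hq3 : 3 ≤ q := by omega
      have hb1 : 1 ≤ q ^ b := Nat.one_le_pow _ _ hq1
      have key : ∀ i, (i + 2) * (q ^ b + 1) ≤ 2 * (q ^ (b + i) + 1) := by
        intro i
        induction i with
        | zero => simp
        | succ i ih =>
          have h6 : q ^ b ≤ q ^ (b + i) := Nat.pow_le_pow_right hq1 (Nat.le_add_right _ _)
          have h7 : 3 * q ^ (b + i) ≤ q * q ^ (b + i) := Nat.mul_le_mul_right _ hq3
          rw [← add_assoc, pow_succ']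
          nlinarith
      obtain ⟨i, rfl⟩ : ∃ i, j = i + 2 := ⟨j - 2, by omega⟩
      have h1 : q ^ (b + i + 2) ≤ q ^ (d - 1) := Nat.pow_le_pow_right hq1 (by omega)
      have hbi : q ≤ q ^ (b + i) := Nat.le_self_pow (by omega) q
      have hfin : q * (2 * (q ^ (b + i) + 1)) + 1 ≤ q ^ (b + i + 2) := by
        have e1 : 3 * (q * q ^ (b + i)) ≤ q * (q * q ^ (b + i)) := Nat.mul_le_mul_right _ hq3
        have e2 : q * q ≤ q * q ^ (b + i) := Nat.mul_le_mul_left _ hbi
        have e3 : 3 * q ≤ q * q := Nat.mul_le_mul_right _ hq3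
        rw [pow_succ', pow_succ']
        linarith
      calc (q + 1) * M q b * p ^ Nat.clog p (i + 2 + 1) ≤ (q ^ b + 1) * (q * (i + 2)) :=
            Nat.mul_le_mul hN (hP.trans (Nat.mul_le_mul_right _ hpq))
        _ = q * ((i + 2) * (q ^ b + 1)) := by ring
        _ ≤ q * (2 * (q ^ (b + i) + 1)) := Nat.mul_le_mul_left _ (key i)
        _ ≤ _ := by omega

/-- A bound from orbit sizes `k` and multiplicities `m`. -/
theorem good_orbits (q p : ℕ) (hq : 2 ≤ q) (hp : 2 ≤ p) (hpq : p ≤ q) {d : ℕ} (hd : 3 ≤ d)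
    {ι : Type*} (S : Finset ι) (k m : ι → ℕ) (hS : 2 ≤ S.card)
    (hk : ∀ o ∈ S, 1 ≤ k o) (hm : ∀ o ∈ S, 1 ≤ m o) (hsum : ∑ o ∈ S, k o * m o = d) :
    ∃ c, (∀ o ∈ S, m o ≤ p ^ c) ∧ Good q p d ((q + 1) * (∏ o ∈ S, M q (k o)) * p ^ c) := by
  classical
  obtain ⟨o1, ho1, hmax⟩ := S.exists_max_image m (Finset.card_pos.1 (by omega))
  obtain ⟨j, hj⟩ : ∃ j, m o1 = j + 1 := ⟨m o1 - 1, by have := hm o1 ho1; omega⟩
  obtain ⟨h1, -, h3⟩ := clog_bound hp hpq j
  refine ⟨Nat.clog p (j + 1), fun o ho => (hmax o ho).trans (hj ▸ h1), ?_⟩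
  have hsplit : ∑ o ∈ S, k o * m o = k o1 * m o1 + ∑ o ∈ S.erase o1, k o * m o :=
    (Finset.add_sum_erase S (fun o => k o * m o) ho1).symm
  have hk' : ∑ o ∈ S.erase o1, k o ≤ ∑ o ∈ S.erase o1, k o * m o :=
    Finset.sum_le_sum fun o ho => Nat.le_mul_of_pos_right _ (hm o (Finset.mem_of_mem_erase ho))
  have hkS : ∑ o ∈ S, k o + j * k o1 ≤ d := by
    rw [← Finset.add_sum_erase S k ho1, ← hsum, hsplit, hj]
    nlinarith
  have hone : ∑ o ∈ S, 1 = S.card := by simp
  have hexp : ∑ o ∈ S, (k o - 1) + S.card = ∑ o ∈ S, k o := by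
    rw [← hone, ← Finset.sum_add_distrib]
    exact Finset.sum_congr rfl fun o ho => Nat.sub_add_cancel (hk o ho)
  have hprod : ∏ o ∈ S, M q (k o) ≤ q ^ ∑ o ∈ S, (k o - 1) := by
    rw [← Finset.prod_pow_eq_pow_sum]
    exact Finset.prod_le_prod' fun o ho => M_le q hq (hk o ho)
  have hbig : ∀ e, e = ∑ o ∈ S, (k o - 1) + j → e + 3 ≤ d →
      Good q p d ((q + 1) * (∏ o ∈ S, M q (k o)) * p ^ Nat.clog p (j + 1)) := by
    intro e he hed
    refine Or.inl (le_trans ?_ (succ_mul_pow_le q hq hd hed))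
    rw [mul_assoc, he, pow_add]
    exact Nat.mul_le_mul_left _ (Nat.mul_le_mul hprod h3)
  have hk1 := hk o1 ho1
  rcases Nat.lt_or_ge 2 S.card with h | h
  · refine hbig _ rfl ?_
    have : j ≤ j * k o1 := Nat.le_mul_of_pos_right _ hk1
    omega
  have hS2 : S.card = 2 := by omega
  obtain ⟨o2, ho2⟩ := Finset.card_eq_one.1
    (show (S.erase o1).card = 1 by rw [Finset.card_erase_of_mem ho1]; omega)
  have ho2S : o2 ∈ S := Finset.mem_of_mem_erase (s := S) (a := o1) (by rw [ho2]; exact Finset.mem_singleton_self _)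
  have hP : ∏ o ∈ S, M q (k o) = M q (k o1) * M q (k o2) := by
    rw [← Finset.mul_prod_erase S _ ho1, ho2, Finset.prod_singleton]
  rcases Nat.eq_zero_or_pos j with rfl | hj0
  · rw [zero_add, Nat.clog_one_right, pow_zero, mul_one, hP, ← mul_assoc]
    refine good_semi q p hq hd hk1 (hk o2 ho2S) ?_
    rw [← hsum, hsplit, ho2, Finset.sum_singleton, hj]
    have h2 : m o2 = 1 := by
      have := hmax o2 ho2S
      have := hm o2 ho2S
      omega
    rw [h2, zero_add, mul_one, mul_one]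
  rcases eq_or_ne (k o1) 1 with hk11 | hk11
  · rw [hP, hk11, M_one, one_mul]
    refine good_point q p hq hp hpq (hk o2 ho2S) hj0 ?_
    have e : ∑ o ∈ S, k o = k o1 + k o2 := by
      rw [← Finset.add_sum_erase S k ho1, ho2, Finset.sum_singleton]
    rw [e, hk11, mul_one] at hkS
    omega
  · refine hbig _ rfl ?_
    have : 2 * j ≤ j * k o1 := by
      rw [mul_comm 2]; exact Nat.mul_le_mul_left _ (by omega)
    omega

end CfsgLib.OrderBound.Unit
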