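import Cfsg.Agent.Lib.Classical.OrderBound.UnitaryArith
import Cfsg.Agent.Lib.Classical.HermStab
import Cfsg.Agent.Lib.Classical.HermOrder
import Cfsg.Agent.Lib.Classical.OrderBound.Main

/-!
# Element orders in projective unitary groups: the upper bound
-/

set_option autoImplicit false

namespace CfsgLib.OrderBound.Unit

open Finset Polynomial Matrix CfsgLib.SU CfsgLib.Classical

section multiset

variable {K : Type*} [Field K] [DecidableEq K]

/-- An exponent making all members equal to one `(q + 1)`-st root of unity. -/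
theorem exists_exponent (q p : ℕ) (hq : 2 ≤ q) (hp : 2 ≤ p) (hpq : p ≤ q)
    (hinj : Function.Injective fun x : K => x ^ q) (R : Multiset K) (h0 : (0 : K) ∉ R)
    (hR : R.map (fun x => (x ^ q)⁻¹) = R) {d : ℕ} (hd : 3 ≤ d) (h32 : ¬ (d = 3 ∧ q = 2))
    (hcard : Multiset.card R = d) :
    ∃ (L c : ℕ) (s : K), 0 < L ∧ (∀ x, R.count x ≤ p ^ c) ∧ (∀ x ∈ R, x ^ L = s) ∧
      s ^ (q ^ 2) = s ∧ Good q p d (L * p ^ c) := by
  classical
  set φ : K → K := fun x => (x ^ q)⁻¹ with hφ
  have hφinj : Function.Injective φ := fun a b h => hinj (inv_injective h)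
  have hcount : ∀ x, R.count (φ x) = R.count x := fun x => by
    conv_lhs => rw [← hR]
    exact Multiset.count_map_eq_count' _ _ hφinj x
  set T := R.toFinset with hT
  have hφT : ∀ x ∈ T, φ x ∈ T := fun x hx => by
    rw [hT, Multiset.mem_toFinset] at hx ⊢
    exact Multiset.count_pos.1 (hcount x ▸ Multiset.count_pos.2 hx)
  have hit : ∀ x ∈ T, ∀ i, φ^[i] x ∈ T := by
    intro x hx i
    induction i with
    | zero => exact hx
    | succ i ih => rw [Function.iterate_succ_apply']; exact hφT _ ih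
  have hitc : ∀ x i, R.count (φ^[i] x) = R.count x := by
    intro x i
    induction i with
    | zero => rfl
    | succ i ih => rw [Function.iterate_succ_apply', hcount, ih]
  have hne : ∀ x ∈ T, x ≠ 0 := fun x hx h => h0 (h ▸ Multiset.mem_toFinset.1 hx)
  have hpow : ∀ x : K, ∀ i, φ^[i] x = x ^ ((-(q : ℤ)) ^ i) := by
    intro x i
    induction i with
    | zero => simp
    | succ i ih =>
      rw [Function.iterate_succ_apply', ih, pow_succ, _root_.zpow_mul, _root_.zpow_neg, zpow_natCast]
  have hper : ∀ x ∈ T, ∃ i, 0 < i ∧ φ^[i] x = x := by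
    intro x hx
    obtain ⟨i, -, j, -, hne', he⟩ := Finset.exists_ne_map_eq_of_card_lt_of_maps_to
      (s := range (T.card + 1)) (t := T) (f := fun i => φ^[i] x) (by simp) (fun i _ => hit x hx i)
    wlog hij : i < j generalizing i j
    · exact this j i hne'.symm he.symm (lt_of_le_of_ne (not_lt.1 hij) hne'.symm)
    refine ⟨j - i, Nat.sub_pos_of_lt hij, hφinj.iterate i ?_⟩
    rw [← Function.iterate_add_apply, Nat.add_sub_cancel' hij.le]
    exact he.symm
  let per : K → ℕ := fun x => Function.minimalPeriod φ x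
  have hppos : ∀ x ∈ T, 0 < per x := fun x hx => by
    obtain ⟨i, hi, he⟩ := hper x hx
    exact Function.IsPeriodicPt.minimalPeriod_pos hi he
  have hpfix : ∀ x, φ^[per x] x = x := fun x => Function.isPeriodicPt_minimalPeriod φ x
  let orb : K → Finset K := fun x => (range (per x)).image (fun i => φ^[i] x)
  have horbmem : ∀ x ∈ T, ∀ i, φ^[i] x ∈ orb x := by
    intro x hx i
    refine mem_image.2 ⟨i % per x, mem_range.2 (Nat.mod_lt _ (hppos x hx)), ?_⟩
    exact Function.iterate_mod_minimalPeriod_eq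
  have horbcard : ∀ x, (orb x).card = per x := fun x => by
    rw [card_image_of_injOn, card_range]
    intro i hi j hj he
    rw [coe_range, Set.mem_Iio] at hi hj
    exact (Function.iterate_eq_iterate_iff_of_lt_minimalPeriod hi hj).1 he
  have horbeq : ∀ x ∈ T, ∀ y ∈ orb x, orb y = orb x := by
    intro x hx y hy
    obtain ⟨i, hi, rfl⟩ := mem_image.1 hy
    rw [mem_range] at hi
    ext z
    constructor
    · intro hz
      obtain ⟨j, -, rfl⟩ := mem_image.1 hz
      rw [← Function.iterate_add_apply]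
      exact horbmem x hx _
    · intro hz
      obtain ⟨j, -, rfl⟩ := mem_image.1 hz
      have : φ^[j] x = φ^[j + (per x - i)] (φ^[i] x) := by
        rw [← Function.iterate_add_apply, show j + (per x - i) + i = j + per x by omega,
          Function.iterate_add_apply, hpfix]
      rw [this]
      exact horbmem _ (hit x hx i) _
  have hself : ∀ x ∈ T, x ∈ orb x := fun x hx => horbmem x hx 0
  set O := T.image orb with hO
  have hmemO : ∀ o ∈ O, ∃ x ∈ T, orb x = o := fun o ho => by
    obtain ⟨x, hx, he⟩ := mem_image.1 ho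
    exact ⟨x, hx, he⟩
  let m : Finset K → ℕ := fun o => o.sup fun x => R.count x
  have hm : ∀ o ∈ O, ∀ x ∈ o, R.count x = m o := by
    intro o ho x hx
    obtain ⟨y, hy, rfl⟩ := hmemO o ho
    have hc : ∀ z ∈ orb y, R.count z = R.count y := fun z hz => by
      obtain ⟨i, -, rfl⟩ := mem_image.1 hz
      exact hitc y i
    refine le_antisymm (le_sup (f := fun z => R.count z) hx) (Finset.sup_le fun z hz => ?_)
    show R.count z ≤ R.count x
    rw [hc z hz, hc x hx]
  have hcover : T = O.biUnion id := by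
    ext x
    rw [mem_biUnion]
    constructor
    · exact fun hx => ⟨orb x, mem_image_of_mem _ hx, hself x hx⟩
    · rintro ⟨o, ho, hxo⟩
      obtain ⟨y, hy, rfl⟩ := hmemO o ho
      obtain ⟨i, -, rfl⟩ := mem_image.1 hxo
      exact hit y hy i
  have hdisj : (O : Set (Finset K)).PairwiseDisjoint id := by
    intro a ha b hb hab
    obtain ⟨x, hx, rfl⟩ := hmemO a ha
    obtain ⟨y, hy, rfl⟩ := hmemO b hb
    refine disjoint_left.2 fun z hz hz' => hab ?_
    rw [← horbeq x hx z hz, ← horbeq y hy z hz']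
  have hsum : ∑ o ∈ O, o.card * m o = d := by
    rw [← hcard, ← Multiset.toFinset_sum_count_eq R, ← hT, hcover, sum_biUnion hdisj]
    refine sum_congr rfl fun o ho => ?_
    rw [id, sum_congr rfl (hm o ho), sum_const, smul_eq_mul]
  have hk : ∀ o ∈ O, 1 ≤ o.card := fun o ho => by
    obtain ⟨x, hx, rfl⟩ := hmemO o ho
    exact card_pos.2 ⟨x, hself x hx⟩
  have hm1 : ∀ o ∈ O, 1 ≤ m o := fun o ho => by
    obtain ⟨x, hx, rfl⟩ := hmemO o ho
    rw [← hm _ (mem_image_of_mem _ hx) x (hself x hx)]
    exact Multiset.count_pos.2 (Multiset.mem_toFinset.1 hx)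
  have hroot : ∀ x ∈ T, x ^ ((q + 1) * M q (per x)) = 1 := by
    intro x hx
    have h1 : x ^ ((-(q : ℤ)) ^ per x - 1) = 1 := by
      rw [zpow_sub₀ (hne x hx), zpow_one, ← hpow, hpfix, div_self (hne x hx)]
    rw [mul_M]
    rcases Int.natAbs_eq ((-(q : ℤ)) ^ per x - 1) with h | h
    · rw [h, zpow_natCast] at h1
      exact h1
    · rw [h, _root_.zpow_neg, zpow_natCast, inv_eq_one] at h1
      exact h1
  have hTne : T.Nonempty := by
    rw [hT, Multiset.toFinset_nonempty]
    intro h
    rw [h, Multiset.card_zero] at hcard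
    omega
  rcases Nat.lt_or_ge O.card 2 with hO1 | hO2
  · obtain ⟨x, hx⟩ := hTne
    have hOeq : O = {orb x} := by
      refine eq_singleton_iff_unique_mem.2 ⟨mem_image_of_mem _ hx, fun o ho => ?_⟩
      exact card_le_one.1 (by omega) o ho _ (mem_image_of_mem _ hx)
    rw [hOeq, sum_singleton, horbcard] at hsum
    refine ⟨M q (per x), Nat.clog p (m (orb x)), x ^ M q (per x), M_pos q hq (hppos x hx), ?_, ?_, ?_,
      good_one q p hq hp hpq hd h32 (hppos x hx) hsum⟩
    · intro y
      by_cases hy : y ∈ R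
      · have hyO : orb y ∈ O := mem_image_of_mem _ (Multiset.mem_toFinset.2 hy)
        rw [hOeq, mem_singleton] at hyO
        have hy' : y ∈ orb x := hyO ▸ hself y (Multiset.mem_toFinset.2 hy)
        rw [hm _ (hOeq ▸ mem_singleton_self _) y hy']
        exact Nat.le_pow_clog hp _
      · rw [Multiset.count_eq_zero.2 hy]; exact Nat.zero_le _
    · intro y hy
      have hyO : orb y ∈ O := mem_image_of_mem _ (Multiset.mem_toFinset.2 hy)
      rw [hOeq, mem_singleton] at hyO
      obtain ⟨i, -, rfl⟩ := mem_image.1 (show y ∈ orb x from hyO ▸ hself y (Multiset.mem_toFinset.2 hy))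
      have hs : ∀ i, (φ^[i] x) ^ M q (per x) = x ^ M q (per x) := by
        intro i
        induction i with
        | zero => rfl
        | succ i ih =>
          rw [Function.iterate_succ_apply', hφ]
          show ((φ^[i] x ^ q)⁻¹) ^ M q (per x) = _
          rw [inv_pow, ← pow_mul, mul_comm, pow_mul, ih]
          refine inv_eq_of_mul_eq_one_left ?_
          rw [← pow_succ', ← pow_mul, mul_comm]
          exact hroot x hx
      exact hs i
    · have key : ∀ s : K, s ^ (q + 1) = 1 → s ^ q ^ 2 = s := by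
        intro s h1
        obtain ⟨w, rfl⟩ : ∃ w, q = w + 1 := ⟨q - 1, by omega⟩
        rw [show (w + 1) ^ 2 = (w + 1 + 1) * w + 1 by ring, pow_succ, pow_mul, h1, one_pow, one_mul]
      exact key _ (by rw [← pow_mul, mul_comm]; exact hroot x hx)
  · obtain ⟨c, hc, hgood⟩ := good_orbits q p hq hp hpq hd O Finset.card m hO2 hk hm1 hsum
    refine ⟨(q + 1) * ∏ o ∈ O, M q o.card, c, 1, ?_, ?_, ?_, one_pow _, hgood⟩
    · exact Nat.mul_pos (Nat.succ_pos _) (prod_pos fun o ho => M_pos q hq (hk o ho))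
    · intro y
      by_cases hy : y ∈ R
      · have hyT : y ∈ T := Multiset.mem_toFinset.2 hy
        rw [hm _ (mem_image_of_mem _ hyT) y (hself y hyT)]
        exact hc _ (mem_image_of_mem _ hyT)
      · rw [Multiset.count_eq_zero.2 hy]; exact Nat.zero_le _
    · intro y hy
      have hyT : y ∈ T := Multiset.mem_toFinset.2 hy
      obtain ⟨r, hr⟩ := Finset.dvd_prod_of_mem (fun o : Finset K => M q o.card) (mem_image_of_mem orb hyT)
      rw [hO, hr, horbcard, ← mul_assoc, pow_mul, hroot y hyT, one_pow]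

end multiset

section matrix

variable {F : Type*} [Field F] [Fintype F]

/-- The projective order of an isometry is bounded. -/
theorem exists_pow_scalar (p f : ℕ) [Fact p.Prime] [CharP F p] (hf : 1 ≤ f) {q d : ℕ} (hq : q = p ^ f)
    (hF : Fintype.card F = q ^ 2) (hd : 3 ≤ d) (h32 : ¬ (d = 3 ∧ q = 2)) (g : ↥(Cfsg.GU d F q)) :
    ∃ N, 0 < N ∧ (∃ s : F, g.1.1 ^ N = s • (1 : Matrix (Fin d) (Fin d) F)) ∧ Good q p d N := by
  classical
  obtain ⟨C⟩ := Classical.uctx_exists hF
  have hp : p.Prime := Fact.out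
  have hq2 : 2 ≤ q := Classical.two_le_q hF
  have hpq : p ≤ q := hq ▸ Nat.le_self_pow (by omega) p
  set A := g.1.1 with hA
  let K := AlgebraicClosure F
  let φ := algebraMap F K
  haveI : CharP K p := charP_of_injective_algebraMap φ.injective p
  -- the adjoint relation
  have hT : Aᵀ * A.map C.bar = 1 := by
    ext i j
    have h := (Classical.gu_mem_iff C).1 g.2 (Pi.single i 1) (Pi.single j 1)
    simp only [Matrix.mulVec_single_one, UCtx.form] at h
    rw [Matrix.mul_apply]
    refine h.trans ?_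
    rw [Finset.sum_eq_single i (fun b _ hb => by simp [hb]) (by simp), Matrix.one_apply, Pi.single_eq_same,
      one_mul, Pi.single_apply]
    split_ifs <;> simp
  have hAu : IsUnit A := g.1.isUnit
  have hAdet : IsUnit A.det := (Matrix.isUnit_iff_isUnit_det A).1 hAu
  set χ := A.charpoly with hχ
  set R := (χ.map φ).roots with hR
  have hmon : χ.Monic := Matrix.charpoly_monic A
  have hsplit : (χ.map φ).Splits := IsAlgClosed.splits _
  have hcard : Multiset.card R = d := by
    rw [hR, ← hsplit.natDegree_eq_card_roots, natDegree_map, hχ, charpoly_natDegree_eq_dim, Fintype.card_fin]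
  have hprod : χ.map φ = (R.map fun a => X - Polynomial.C a).prod := by
    conv_lhs => rw [hsplit.eq_prod_roots, (hmon.map φ).leadingCoeff, Polynomial.C_1, one_mul]
  have h0 : (0 : K) ∉ R := by
    intro h
    rw [hR, mem_roots (hmon.map φ).ne_zero, IsRoot, ← coeff_zero_eq_eval_zero, coeff_map,
      map_eq_zero] at h
    exact hAdet.ne_zero (by rw [det_eq_sign_charpoly_coeff, ← hχ, h, mul_zero])
  let Fr : K →+* K := iterateFrobenius K p f
  have hFr : ∀ x, Fr x = x ^ q := fun x => by
    show iterateFrobenius K p f x = _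
    rw [iterateFrobenius_def, hq]
  have hinj : Function.Injective fun x : K => x ^ q := fun a b h =>
    Fr.injective (by rw [hFr, hFr]; exact h)
  have hinv : A⁻¹.charpoly = χ.map (C.bar : F →+* F) := by
    have h1 : A⁻¹ = (A.map C.bar)ᵀ := by
      refine Matrix.inv_eq_left_inv ?_
      have h2 := congrArg Matrix.transpose hT
      rwa [Matrix.transpose_mul, Matrix.transpose_transpose, Matrix.transpose_one] at h2
    rw [h1, Matrix.charpoly_transpose, hχ]
    exact Matrix.charpoly_map A (C.bar : F →+* F)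
  have hRq : R.map (fun x => x ^ q) = R.map (·⁻¹) := by
    have hcomp : φ.comp (C.bar : F →+* F) = Fr.comp φ := RingHom.ext fun x => by
      show φ (C.bar x) = Fr (φ x)
      rw [hFr, C.bar_eq, map_pow]
    have h1 : ((χ.map (C.bar : F →+* F)).map φ).roots = R.map (fun x => x ^ q) := by
      rw [Polynomial.map_map, hcomp, ← Polynomial.map_map, hsplit.roots_map Fr, ← hR]
      exact Multiset.map_congr rfl fun x _ => hFr x
    rw [← h1]
    obtain ⟨c, hc, he⟩ := reverse_prod_X_sub_C R h0
    rw [← hprod] at he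
    have h2 : χ.map (C.bar : F →+* F) = Polynomial.C ((-1) ^ d * Ring.inverse A.det) * χ.reverse := by
      rw [← hinv, Matrix.charpoly_inv A hAu, hχ, Matrix.reverse_charpoly, Fintype.card_fin, map_mul, map_pow,
        map_neg, Polynomial.C_1]
    have hd0 : (-1 : F) ^ d * Ring.inverse A.det ≠ 0 := fun h =>
      (hmon.map (C.bar : F →+* F)).ne_zero (by rw [h2, h, Polynomial.C_0, zero_mul])
    have hrmap : χ.reverse.map φ = (χ.map φ).reverse := by
      rw [reverse, reverse, natDegree_map, reflect_map]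
    rw [h2, Polynomial.map_mul, map_C, hrmap, he, ← mul_assoc, ← Polynomial.C_mul]
    have hne : φ ((-1 : F) ^ d * Ring.inverse A.det) * c ≠ 0 :=
      mul_ne_zero (fun h => hd0 (φ.injective (h.trans (map_zero φ).symm))) hc
    rw [roots_C_mul _ hne]
    calc ((R.map fun a => X - Polynomial.C a⁻¹).prod).roots
        = ((R.map (·⁻¹)).map fun a => X - Polynomial.C a).prod.roots := by rw [Multiset.map_map]; rfl
      _ = R.map (·⁻¹) := roots_multiset_prod_X_sub_C _
  have hRφ : R.map (fun x => (x ^ q)⁻¹) = R := by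
    rw [show (fun x : K => (x ^ q)⁻¹) = (·⁻¹) ∘ (fun x => x ^ q) from rfl, ← Multiset.map_map, hRq,
      Multiset.map_map]
    exact (Multiset.map_congr rfl fun x _ => inv_inv x).trans (Multiset.map_id' R)
  obtain ⟨L, c, s, hL, hcnt, hxs, hs2, hgood⟩ :=
    exists_exponent q p hq2 hp.two_le hpq hinj R h0 hRφ hd h32 hcard
  obtain ⟨s₀, hs₀⟩ : ∃ s₀ : F, φ s₀ = s := by
    set P : K[X] := X ^ Fintype.card F - X with hP
    have hP0 : P ≠ 0 := FiniteField.X_pow_card_sub_X_ne_zero K Fintype.one_lt_card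
    have hmem : ∀ x : K, x ∈ P.roots.toFinset ↔ x ^ Fintype.card F = x := fun x => by
      rw [Multiset.mem_toFinset, mem_roots hP0, IsRoot, hP, eval_sub, eval_pow, eval_X, sub_eq_zero]
    have heq : Finset.univ.image φ = P.roots.toFinset := by
      refine Finset.eq_of_subset_of_card_le (fun x hx => ?_) ?_
      · obtain ⟨a, -, rfl⟩ := Finset.mem_image.1 hx
        rw [hmem, ← map_pow, FiniteField.pow_card]
      · rw [Finset.card_image_of_injective _ φ.injective, Finset.card_univ]
        refine (Multiset.toFinset_card_le _).trans ((card_roots' P).trans ?_)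
        rw [hP, FiniteField.X_pow_card_sub_X_natDegree_eq K Fintype.one_lt_card]
    have h2 : s ∈ Finset.univ.image φ := by rw [heq, hmem, hF, hs2]
    obtain ⟨s₀, -, hs₀⟩ := Finset.mem_image.1 h2
    exact ⟨s₀, hs₀⟩
  refine ⟨L * p ^ c, Nat.mul_pos hL (pow_pos hp.pos _), ⟨s₀ ^ p ^ c, ?_⟩, hgood⟩
  haveI : Nonempty (Fin d) := ⟨⟨0, by omega⟩⟩
  set P : F[X] := (X ^ L - Polynomial.C s₀) ^ p ^ c with hP
  have hP0 : P ≠ 0 := pow_ne_zero _ (X_pow_sub_C_ne_zero hL s₀)
  have hPK : P.map φ = (X ^ L - Polynomial.C (φ s₀)) ^ p ^ c := by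
    rw [hP, Polynomial.map_pow, Polynomial.map_sub, Polynomial.map_pow, map_X, map_C]
  have hdvd : χ ∣ P := by
    rw [← map_dvd_map' φ, hsplit.dvd_iff_roots_le_roots (hmon.map φ).ne_zero
      ((Polynomial.map_ne_zero_iff φ.injective).2 hP0), hPK, roots_pow, ← hR, Multiset.le_iff_count]
    intro x
    rw [Multiset.count_nsmul]
    rcases Nat.eq_zero_or_pos (R.count x) with h | h
    · rw [h]; exact Nat.zero_le _
    · have hx' : x ∈ (X ^ L - Polynomial.C (φ s₀)).roots := by
        rw [mem_roots (X_pow_sub_C_ne_zero hL _), IsRoot, eval_sub, eval_pow, eval_X, eval_C,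
          hxs x (Multiset.count_pos.1 h), hs₀, sub_self]
      exact (hcnt x).trans (Nat.le_mul_of_pos_right _ (Multiset.count_pos.2 hx'))
  have h4 : aeval A P = 0 := by
    obtain ⟨Q, hQ⟩ := hdvd
    rw [hQ, map_mul, hχ, Matrix.aeval_self_charpoly, zero_mul]
  haveI : CharP (Matrix (Fin d) (Fin d) F) p :=
    charP_of_injective_algebraMap (algebraMap F (Matrix (Fin d) (Fin d) F)).injective p
  rw [hP, map_pow, map_sub, map_pow, aeval_X, aeval_C, sub_pow_char_pow_of_commute _ _
    (Algebra.commutes s₀ (A ^ L)).symm, sub_eq_zero, ← pow_mul, ← map_pow] at h4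
  rw [h4, Algebra.algebraMap_eq_smul_one]

/-- The bound for the projective group. -/
theorem orderOf_le (p f : ℕ) [Fact p.Prime] [CharP F p] (hf : 1 ≤ f) {q d : ℕ} (hq : q = p ^ f)
    (hF : Fintype.card F = q ^ 2) (hd : 3 ≤ d) (h32 : ¬ (d = 3 ∧ q = 2))
    (g : ↥(Cfsg.GU d F q) ⧸ Subgroup.center ↥(Cfsg.GU d F q)) :
    ∃ N, orderOf g ≤ N ∧ Good q p d N := by
  obtain ⟨x, rfl⟩ := QuotientGroup.mk'_surjective (Subgroup.center _) g
  obtain ⟨N, hN, ⟨s, hs⟩, hgood⟩ := exists_pow_scalar p f hf hq hF hd h32 x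
  refine ⟨N, orderOf_le_of_pow_eq_one hN ?_, hgood⟩
  rw [← map_pow]
  refine (QuotientGroup.eq_one_iff _).2 (Subgroup.mem_center_iff.2 fun y => ?_)
  refine Subtype.ext (Units.ext ?_)
  show y.1.1 * (x ^ N).1.1 = (x ^ N).1.1 * y.1.1
  rw [SubmonoidClass.coe_pow, Units.val_pow_eq_pow_val, hs, smul_mul_assoc, mul_smul_comm, one_mul, mul_one]

end matrix

end CfsgLib.OrderBound.Unit
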