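import Cfsg.Agent.Lib.Classical.HermTori
import Cfsg.Agent.Lib.Classical.OrderBound.UnitaryMain

/-!
# Element orders in projective unitary groups: elements of maximal order
-/

set_option autoImplicit false

namespace CfsgLib.OrderBound.Unit

open Matrix Module CfsgLib.SU CfsgLib.Classical CfsgLib.Classical.HermWitt CfsgLib.Classical.HermFrames

variable {F : Type*} [Field F] [Fintype F] {q : ℕ} (C : UCtx F q)

/-- Norm one elements of an algebra with involution as unitary matrices. -/
theorem exists_gu_of_algebra {R : Type*} [CommRing R] [Algebra F R] [Module.Finite F R] {d : ℕ}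
    (hd : finrank F R = d) (st : R →+* R) (hst : ∀ x, st (st x) = x)
    (hsta : ∀ c, st (algebraMap F R c) = algebraMap F R (C.bar c)) (l : R →ₗ[F] F)
    (hl : ∀ x, l (st x) = C.bar (l x)) (hnd : ∀ x, (∀ y, l (x * y) = 0) → x = 0)
    (t : R) (ht : t * st t = 1) : ∃ A : ↥(Cfsg.GU d F q), orderOf A = orderOf t := by
  classical
  let B : R →ₛₗ[(C.bar : F →+* F)] R →ₗ[F] F :=
    LinearMap.mk₂'ₛₗ (C.bar : F →+* F) (RingHom.id F) (fun u v => l (v * st u))
      (fun a b c => by rw [map_add, mul_add, map_add])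
      (fun r a b => by
        show l (b * st (r • a)) = C.bar r • l (b * st a)
        rw [Algebra.smul_def r a, map_mul st, hsta, mul_left_comm, ← Algebra.smul_def, map_smul])
      (fun a b c => by rw [add_mul, map_add])
      (fun r a b => by rw [smul_mul_assoc, map_smul]; rfl)
  have hBs : B.IsSymm := ⟨fun u v => by
    show C.bar (l (v * st u)) = l (u * st v)
    rw [← hl, map_mul, hst, mul_comm]⟩
  have hBn : B.Nondegenerate := ⟨fun u h => by
      have := hnd (st u) fun y => by rw [mul_comm]; exact h y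
      rw [← hst u, this, map_zero],
    fun v h => hnd v fun y => by have := h (st y); rwa [show B (st y) v = l (v * st (st y)) from rfl, hst] at this⟩
  obtain ⟨v, hv⟩ := exists_orth (B := B) (bar_ne_id C) C.bar_bar hBs hBn d hd.ge
  let b : Basis (Fin d) F R := Basis.mk (linearIndependent_of_orth hv)
      ((linearIndependent_of_orth hv).span_eq_top_of_card_eq_finrank' (by rw [hd, Fintype.card_fin])).ge
  have hb : ∀ i, b i = v i := fun i => Basis.mk_apply _ _ i
  have hB : ∀ x y : R, C.form (b.repr x) (b.repr y) = B y x := by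
    intro x y
    conv_rhs => rw [← b.sum_repr x, ← b.sum_repr y]
    simp only [map_sum, LinearMap.sum_apply, map_smul, LinearMap.map_smulₛₗ, LinearMap.smul_apply, smul_eq_mul,
      hb, hv, mul_ite, mul_one, mul_zero, Finset.sum_ite_eq', Finset.mem_univ, if_true, UCtx.form, RingEquiv.coe_toRingHom]
  let U : Rˣ := ⟨t, st t, ht, by rw [mul_comm]; exact ht⟩
  let g : GL (Fin d) F := Units.map (Algebra.leftMulMatrix b).toRingHom.toMonoidHom U
  have hM : ∀ x, g.1 *ᵥ b.repr x = b.repr (t * x) := fun x => Algebra.leftMulMatrix_mulVec_repr b t x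
  refine ⟨⟨g, (gu_mem_iff C).2 fun u u' => ?_⟩, ?_⟩
  · obtain ⟨x, rfl⟩ : ∃ x, (b.repr x : Fin d → F) = u := ⟨b.equivFun.symm u, b.equivFun.apply_symm_apply u⟩
    obtain ⟨y, rfl⟩ : ∃ y, (b.repr y : Fin d → F) = u' := ⟨b.equivFun.symm u', b.equivFun.apply_symm_apply u'⟩
    rw [hM, hM, hB, hB]
    show l (t * x * st (t * y)) = l (x * st y)
    rw [map_mul st, mul_mul_mul_comm, ht, one_mul]
  · rw [← Subgroup.orderOf_coe]
    exact (orderOf_injective (Units.map (Algebra.leftMulMatrix b).toRingHom.toMonoidHom)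
      (Units.map_injective (Algebra.leftMulMatrix_injective b)) U).trans orderOf_units.symm

variable {p a : ℕ} [Fact p.Prime] [CharP F p]

include C in
/-- The maximal cyclic tori of `GU_m`. -/
theorem exists_gu_torus (hq : q = p ^ a) (hF : Fintype.card F = q ^ 2) {m : ℕ} (hm : 1 ≤ m) :
    ∃ A : ↥(Cfsg.GU m F q), orderOf A = if Even m then q ^ m - 1 else q ^ m + 1 := by
  classical
  rcases Nat.even_or_odd' m with ⟨b, rfl | rfl⟩
  · rw [if_pos (even_two_mul b)]
    haveI : NeZero b := ⟨by omega⟩
    let L := FiniteField.Extension F p b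
    have hfin : finrank F L = b := FiniteField.finrank_extension F p b
    haveI : Finite L := Module.finite_of_finite F
    letI : Fintype L := Fintype.ofFinite L
    haveI : CharP L p := charP_of_injective_algebraMap (algebraMap F L).injective p
    have hL : Fintype.card L = q ^ (2 * b) := by rw [Module.card_eq_pow_finrank (K := F), hfin, hF, ← pow_mul]
    obtain ⟨x, hx⟩ := HermTori.exists_of_order L (dvd_refl (Fintype.card L - 1))
    have hL1 := Fintype.one_lt_card (α := L)
    have hx0 : x ≠ 0 := fun h => by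
      have := pow_orderOf_eq_one x
      rw [hx, h, zero_pow (by omega)] at this
      exact zero_ne_one this
    obtain ⟨e, he⟩ : ∃ e, 2 * b = e + 1 := ⟨2 * b - 1, by omega⟩
    have hodd : Odd e := by
      rcases Nat.even_or_odd e with ⟨c, hc⟩ | h
      · omega
      · exact h
    let φ : ∀ _ : ℕ, L →+* L := fun j => iterateFrobenius L p (a * j)
    have hφ : ∀ j y, φ j y = y ^ q ^ j := fun j y => by
      show iterateFrobenius L p (a * j) y = _
      rw [iterateFrobenius_def, hq, ← pow_mul]
    have hfix : ∀ y : L, y ^ (q ^ e * q) = y := fun y => by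
      rw [← pow_succ, ← he, ← hL, FiniteField.pow_card]
    let st : L × L →+* L × L :=
      ((φ 1).comp (RingHom.snd L L)).prod ((φ e).comp (RingHom.fst L L))
    have hst1 : ∀ y : L × L, st y = (y.2 ^ q, y.1 ^ q ^ e) := fun y => by
      show (φ 1 y.2, φ e y.1) = _
      rw [hφ, hφ, pow_one]
    let l : L × L →ₗ[F] F := (Algebra.trace F L).coprod (Algebra.trace F L)
    have hl1 : ∀ y : L × L, l y = Algebra.trace F L y.1 + Algebra.trace F L y.2 := fun y => rfl
    obtain ⟨A, hA⟩ := exists_gu_of_algebra C (R := L × L) (d := 2 * b) (by rw [Module.finrank_prod, hfin]; ring) st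
      (fun y => by
        rw [hst1, hst1]
        refine Prod.ext ?_ ?_
        · show (y.1 ^ q ^ e) ^ q = y.1
          rw [← pow_mul, hfix]
        · show (y.2 ^ q) ^ q ^ e = y.2
          rw [← pow_mul, mul_comm, hfix])
      (fun c => by
        rw [hst1]
        show (algebraMap F L c ^ q, algebraMap F L c ^ q ^ e) = (algebraMap F L (C.bar c), algebraMap F L (C.bar c))
        rw [← map_pow, ← map_pow, HermTori.bar_odd C hF hodd, C.bar_eq])
      l (fun y => by
        rw [hst1, hl1, hl1, map_add, ← HermTori.trace_frob C hq hF L hodd,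
          ← HermTori.trace_frob C hq hF L odd_one, pow_one, add_comm])
      (fun y hy => Prod.ext
        ((traceForm_nondegenerate F L).1 _ fun z => by
          have := hy (z, 0)
          simpa [hl1, Algebra.traceForm_apply] using this)
        ((traceForm_nondegenerate F L).1 _ fun z => by
          have := hy (0, z)
          simpa [hl1, Algebra.traceForm_apply] using this))
      (x, (x⁻¹) ^ q ^ e)
      (by
        rw [hst1]
        refine Prod.ext ?_ ?_
        · show x * ((x⁻¹) ^ q ^ e) ^ q = 1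
          rw [← pow_mul, hfix, mul_inv_cancel₀ hx0]
        · show (x⁻¹) ^ q ^ e * x ^ q ^ e = 1
          rw [← mul_pow, inv_mul_cancel₀ hx0, one_pow])
    refine ⟨A, hA.trans ?_⟩
    have h1 : orderOf (φ e x⁻¹) = orderOf x⁻¹ := orderOf_injective (φ e).toMonoidHom (φ e).injective _
    have h2 : orderOf x⁻¹ = orderOf x := orderOf_eq_orderOf_iff.2 fun j => by rw [inv_pow, inv_eq_one]
    rw [Prod.orderOf_mk, ← hφ, h1, h2, hx, Nat.lcm_self, hL]
  · rw [if_neg (Nat.not_even_iff_odd.2 ⟨b, rfl⟩)]
    haveI : NeZero (2 * b + 1) := ⟨by omega⟩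
    let L := FiniteField.Extension F p (2 * b + 1)
    have hfin : finrank F L = 2 * b + 1 := FiniteField.finrank_extension F p (2 * b + 1)
    haveI : Finite L := Module.finite_of_finite F
    letI : Fintype L := Fintype.ofFinite L
    haveI : CharP L p := charP_of_injective_algebraMap (algebraMap F L).injective p
    have hL : Fintype.card L = q ^ (2 * (2 * b + 1)) := by rw [Module.card_eq_pow_finrank (K := F), hfin, hF, ← pow_mul]
    have hkd : q ^ (2 * b + 1) + 1 ∣ Fintype.card L - 1 := ⟨q ^ (2 * b + 1) - 1, by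
      rw [hL, ← Nat.sq_sub_sq, one_pow, ← pow_mul, mul_comm]⟩
    obtain ⟨x, hx⟩ := HermTori.exists_of_order L hkd
    have hodd : Odd (2 * b + 1) := ⟨b, rfl⟩
    let st : L →+* L := iterateFrobenius L p (a * (2 * b + 1))
    have hst1 : ∀ y : L, st y = y ^ q ^ (2 * b + 1) := fun y => by
      show iterateFrobenius L p _ y = _
      rw [iterateFrobenius_def, hq, ← pow_mul]
    obtain ⟨A, hA⟩ := exists_gu_of_algebra C (R := L) hfin st
      (fun y => by rw [hst1, hst1, ← pow_mul, ← pow_add, ← two_mul, ← hL, FiniteField.pow_card])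
      (fun c => by rw [hst1, ← map_pow, HermTori.bar_odd C hF hodd])
      (Algebra.trace F L) (fun y => by rw [hst1, HermTori.trace_frob C hq hF L hodd])
      (fun y hy => (traceForm_nondegenerate F L).1 _ fun z => by rw [Algebra.traceForm_apply]; exact hy z)
      x (by rw [hst1, ← pow_succ', ← hx, pow_orderOf_eq_one])
    exact ⟨A, hA.trans hx⟩

include C in
/-- A block sum whose projective order is the least common multiple. -/
theorem exists_block_order (hF : Fintype.card F = q ^ 2) {k m : ℕ} (hkm : 2 ≤ k + m)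
    (U : ↥(Cfsg.GU k F q)) (T : ↥(Cfsg.GU m F q))
    (hU : ∀ (n : ℕ) (c : F), (U ^ n).1.1 = c • (1 : Matrix (Fin k) (Fin k) F) → c = 1) :
    ∃ g : ↥(Cfsg.GU (k + m) F q) ⧸ Subgroup.center ↥(Cfsg.GU (k + m) F q),
      orderOf g = Nat.lcm (orderOf U) (orderOf T) := by
  have hmem := fun p : ↥(Cfsg.GU k F q) × ↥(Cfsg.GU m F q) => (HermStab.blockGU_mem C p).1
  let B := (HermStab.blockGU (q := q) (k := k) (m := m) (F := F)).codRestrict (Cfsg.GU (k + m) F q) hmem
  refine ⟨QuotientGroup.mk' _ (B (U, T)), ?_⟩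
  rw [← Prod.orderOf_mk, orderOf_eq_orderOf_iff]
  intro n
  rw [← map_pow, ← map_pow, QuotientGroup.mk'_apply, QuotientGroup.eq_one_iff]
  constructor
  · intro h
    obtain ⟨c, hc⟩ := HermStab.scalar_of_center C hkm hF h
    have h1 : HermStab.blockMat (U ^ n).1.1 (T ^ n).1.1 = (c.1 : F) • (1 : Matrix (Fin (k + m)) (Fin (k + m)) F) := by
      have h2 := congrArg (fun x : ↥(Cfsg.GU (k + m) F q) => x.1.1) hc
      refine Eq.trans ?_ (h2.trans (C.gscal_val c))
      rfl
    rw [← HermTori.blockMat_scalar (c.1 : F)] at h1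
    obtain ⟨e1, e2⟩ := HermTori.blockMat_inj h1
    have hc1 : (c.1 : F) = 1 := hU n _ e1
    rw [hc1, one_smul] at e1 e2
    exact Prod.ext (Subtype.ext (Units.ext e1)) (Subtype.ext (Units.ext e2))
  · intro h
    rw [h, map_one]
    exact one_mem _

/-- `SU` inside `GU`. -/
def suToGU (k : ℕ) : ↥(Cfsg.SU k F q) →* ↥(Cfsg.GU k F q) :=
  (Matrix.SpecialLinearGroup.toGL.comp (Cfsg.SU k F q).subtype).codRestrict (Cfsg.GU k F q) fun x => x.2

theorem suToGU_injective (k : ℕ) : Function.Injective (suToGU (F := F) (q := q) k) := fun x y h => by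
  refine Subtype.ext (Subtype.ext ?_)
  exact congrArg (fun z : ↥(Cfsg.GU k F q) => z.1.1) h

include C in
/-- A regular unipotent block and a torus. -/
theorem exists_unip_torus (hq : q = p ^ a) (hF : Fintype.card F = q ^ 2) (ha : 1 ≤ a) {k m : ℕ} (hk : 1 ≤ k)
    (hm : Odd m) :
    ∃ g : ↥(Cfsg.GU (k + m) F q) ⧸ Subgroup.center ↥(Cfsg.GU (k + m) F q),
      orderOf g = p ^ Nat.clog p k * (q ^ m + 1) := by
  have hp : p.Prime := Fact.out
  obtain ⟨U, hU⟩ := HermTori.exists_regular C p (d := k) hk
  obtain ⟨T, hT⟩ := exists_gu_torus C hq hF hm.pos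
  rw [if_neg (Nat.not_even_iff_odd.2 hm)] at hT
  have hU' : orderOf (suToGU k U) = p ^ Nat.clog p k := by
    rw [orderOf_injective _ (suToGU_injective k), hU]
  obtain ⟨g, hg⟩ := exists_block_order C hF (k := k) (m := m) (by have := hm.pos; omega) (suToGU k U) T
    fun n c hc => by
      haveI : Nonempty (Fin k) := ⟨⟨0, by omega⟩⟩
      have h1 : ((suToGU k U ^ n) ^ p ^ Nat.clog p k).1.1 = 1 := by
        rw [← hU', ← pow_mul, mul_comm, pow_mul, pow_orderOf_eq_one, one_pow]; rfl
      rw [SubmonoidClass.coe_pow, Units.val_pow_eq_pow_val, hc, smul_pow, one_pow] at h1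
      have h2 : c ^ p ^ Nat.clog p k = 1 := by
        have h3 := congrFun (congrFun h1 ⟨0, by omega⟩) ⟨0, by omega⟩
        simpa using h3
      exact iterateFrobenius_inj F p (Nat.clog p k)
        (by rw [iterateFrobenius_def, iterateFrobenius_def, h2, one_pow])
  refine ⟨g, hg.trans ?_⟩
  rw [hU', hT, Nat.Coprime.lcm_eq_mul]
  refine Nat.Coprime.pow_left _ ((hp.coprime_iff_not_dvd).2 fun h => hp.not_dvd_one ((Nat.dvd_add_right ?_).1 h))
  rw [hq, ← pow_mul]
  exact dvd_pow_self p (Nat.mul_ne_zero (by omega) hm.pos.ne')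

include C in
/-- A torus and a trivial block. -/
theorem exists_point_torus (hq : q = p ^ a) (hF : Fintype.card F = q ^ 2) {m : ℕ} (hm : 1 ≤ m) :
    ∃ g : ↥(Cfsg.GU (1 + m) F q) ⧸ Subgroup.center ↥(Cfsg.GU (1 + m) F q),
      orderOf g = if Even m then q ^ m - 1 else q ^ m + 1 := by
  obtain ⟨T, hT⟩ := exists_gu_torus C hq hF hm
  obtain ⟨g, hg⟩ := exists_block_order C hF (k := 1) (m := m) (by omega) 1 T fun n c hc => by
    rw [one_pow] at hc
    have := congrFun (congrFun hc 0) 0
    simpa using this.symm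
  exact ⟨g, by rw [hg, orderOf_one, Nat.lcm_one_left, hT]⟩

end CfsgLib.OrderBound.Unit
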